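import Groth.Agent.UnbddLib.ExtZero
import Groth.Agent.ShriekLib.ExtZeroPull

/-!
# Natural isomorphisms of sheaves of modules from isomorphisms of the underlying abelian sheaves
-/

set_option autoImplicit false
set_option linter.style.haveILetI false
set_option linter.unusedSectionVars false
set_option backward.isDefEq.respectTransparency false
set_option backward.isDefEq.respectTransparency.types false
set_option synthInstance.maxHeartbeats 200000
set_option maxHeartbeats 1000000

universe v u

open CategoryTheory CategoryTheory.Limits AlgebraicGeometry Opposite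

noncomputable section

namespace Groth.Agent.UnbddLib

open PBCLib (fgt fgtPull isIso_fgtPull fgtPull_natural)

variable {Λ : Type (u + 1)} [CommRing Λ]

/-- A left adjoint of a linear functor is linear. -/
theorem linear_leftAdjoint {C D : Type*} [Category C] [Category D] [Preadditive C] [Preadditive D]
    [Linear Λ C] [Linear Λ D] {L : C ⥤ D} {R : D ⥤ C} (adj : L ⊣ R) [Functor.Linear Λ R] :
    Functor.Linear Λ L := by
  refine (Functor.linear_iff (R := Λ) L).2 fun M r => (adj.homEquiv _ _).injective ?_
  rw [Adjunction.homEquiv_unit, Adjunction.homEquiv_unit, R.map_smul, R.map_id, Linear.comp_smul]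
  exact (adj.unit.naturality (r • 𝟙 M)).symm.trans ((Linear.smul_comp _ _ _ _ _ _).trans
    (congrArg (r • ·) ((Category.id_comp _).trans (Category.comp_id _).symm)))

variable {X Y : Scheme.{u}}

instance linear_push (f : X ⟶ Y) : Functor.Linear Λ (EtModW.push Λ f) where
  map_smul _ _ := rfl

instance linear_restrMod (j : X ⟶ Y) [Etale j] [EtShriek.JCont j] : Functor.Linear Λ (EtDl.restrMod Λ j) where
  map_smul _ _ := rfl

instance linear_extZeroMod (j : X ⟶ Y) [Etale j] [EtShriek.JCont j] : Functor.Linear Λ (EtDl.extZeroMod Λ j) :=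
  linear_leftAdjoint (EtDl.extZeroModAdj Λ j)

instance linear_pull (f : X ⟶ Y) : Functor.Linear Λ (EtModW.pull Λ f) :=
  linear_leftAdjoint (EtSix.pullPushModAdj Λ f)

/-- A map of abelian sheaves commuting with scalars is a map of sheaves of modules. -/
def modHom {M N : EtModW.Mod Λ X} (φ : (fgt Λ X).obj M ⟶ (fgt Λ X).obj N)
    (hφ : ∀ r : Λ, (fgt Λ X).map (r • 𝟙 M) ≫ φ = φ ≫ (fgt Λ X).map (r • 𝟙 N)) : M ⟶ N :=
  ⟨{ app := fun U => ModuleCat.ofHom
      { toFun := fun x => φ.hom.app U x
        map_add' := fun x y => map_add (φ.hom.app U).hom x y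
        map_smul' := fun r x => congr($(hφ r).hom.app U x) }
     naturality := fun {U V} i => ModuleCat.hom_ext (LinearMap.ext fun x => congr($(φ.hom.naturality i) x)) }⟩

theorem fgt_modHom {M N : EtModW.Mod Λ X} (φ : (fgt Λ X).obj M ⟶ (fgt Λ X).obj N)
    (hφ : ∀ r : Λ, (fgt Λ X).map (r • 𝟙 M) ≫ φ = φ ≫ (fgt Λ X).map (r • 𝟙 N)) :
    (fgt Λ X).map (modHom φ hφ) = φ := rfl

/-- An isomorphism of abelian sheaves between linear functors lifts to sheaves of modules. -/
def liftIso {C : Type*} [Category C] [Preadditive C] [Linear Λ C] {Φ Ψ : C ⥤ EtModW.Mod Λ Y}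
    [Functor.Linear Λ Φ] [Functor.Linear Λ Ψ] (e : Φ ⋙ fgt Λ Y ≅ Ψ ⋙ fgt Λ Y) : Φ ≅ Ψ :=
  NatIso.ofComponents
    (fun M =>
      { hom := modHom (e.hom.app M) fun r => by
          have := e.hom.naturality (r • 𝟙 M)
          simp only [Functor.comp_map, Functor.map_smul, CategoryTheory.Functor.map_id] at this
          exact this
        inv := modHom (e.inv.app M) fun r => by
          have := e.inv.naturality (r • 𝟙 M)
          simp only [Functor.comp_map, Functor.map_smul, CategoryTheory.Functor.map_id] at this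
          exact this
        hom_inv_id := (fgt Λ Y).map_injective (by
          rw [Functor.map_comp, fgt_modHom, fgt_modHom, CategoryTheory.Functor.map_id]
          exact e.hom_inv_id_app M)
        inv_hom_id := (fgt Λ Y).map_injective (by
          rw [Functor.map_comp, fgt_modHom, fgt_modHom, CategoryTheory.Functor.map_id]
          exact e.inv_hom_id_app M) })
    fun {M N} a => (fgt Λ Y).map_injective
      (((fgt Λ Y).map_comp _ _).trans ((e.hom.naturality a).trans
        (((fgt Λ Y).map_comp (modHom (e.hom.app M) fun r => by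
          have := e.hom.naturality (r • 𝟙 M)
          simp only [Functor.comp_map, Functor.map_smul, CategoryTheory.Functor.map_id] at this
          exact this) (Ψ.map a)).symm)))

variable (Λ)

/-- Forgetting the module structure commutes with extension by zero. -/
def fgtExtZeroIso (j : X ⟶ Y) [Etale j] [EtShriek.JCont j] :
    fgt Λ X ⋙ EtShriek.extZero j ≅ EtDl.extZeroMod Λ j ⋙ fgt Λ Y :=
  NatIso.ofComponents (fun F => haveI := isIso_fgtExtZero Λ j F; asIso (fgtExtZero Λ j F))
    fun a => fgtExtZero_natural Λ j a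

/-- Forgetting the module structure commutes with inverse images. -/
def fgtPullIso (f : X ⟶ Y) : fgt Λ Y ⋙ EtCoh.pull f ≅ EtModW.pull Λ f ⋙ fgt Λ X :=
  NatIso.ofComponents (fun F => haveI := isIso_fgtPull Λ f F; asIso (fgtPull Λ f F))
    fun a => fgtPull_natural Λ f a

/-- Inverse image commutes with extension by zero. -/
def extZeroPullModIso {V U : Scheme.{u}} (f : X ⟶ Y) (j : V ⟶ Y) (j' : U ⟶ X) (f' : U ⟶ V)
    [Etale j] [Etale j'] [EtShriek.JCont j] [EtShriek.JCont j'] (h : IsPullback j' f' f j) :
    EtDl.extZeroMod Λ j ⋙ EtModW.pull Λ f ≅ EtModW.pull Λ f' ⋙ EtDl.extZeroMod Λ j' :=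
  liftIso (Functor.isoWhiskerLeft (EtDl.extZeroMod Λ j) (fgtPullIso Λ f).symm ≪≫
    Functor.isoWhiskerRight (fgtExtZeroIso Λ j).symm (EtCoh.pull f) ≪≫
    Functor.isoWhiskerLeft (fgt Λ V) (ShriekLib.extZeroPullIso f j j' f' h) ≪≫
    Functor.isoWhiskerRight (fgtPullIso Λ f') (EtShriek.extZero j') ≪≫
    Functor.isoWhiskerLeft (EtModW.pull Λ f') (fgtExtZeroIso Λ j'))

end Groth.Agent.UnbddLib
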