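import Mathlib.Algebra.Homology.Refinements
import Mathlib.Algebra.Homology.Embedding.HomEquiv
import Mathlib.Algebra.Homology.Embedding.ExtendHomology
import Mathlib.Algebra.Homology.Embedding.CochainComplex
import Mathlib.CategoryTheory.Abelian.Refinements

/-!
# Bounded above resolutions by a class of objects generating a weak Serre class
-/

set_option autoImplicit false
set_option linter.style.haveILetI false
set_option linter.unusedSectionVars false
set_option backward.isDefEq.respectTransparency false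
set_option backward.isDefEq.respectTransparency.types false
set_option maxHeartbeats 1000000

universe v u

open CategoryTheory CategoryTheory.Limits HomologicalComplex

noncomputable section

namespace Groth.Agent.UnbddLib.Resol

variable {A : Type u} [Category.{v} A] [Abelian A]

/-- The hypotheses: `good` is closed under kernels and extensions, `P` consists of good objects and
generates the good quotients of every object. -/
structure Data (A : Type u) [Category.{v} A] [Abelian A] where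
  good : A → Prop
  P : A → Prop
  good_iso : ∀ {X Y : A}, (X ≅ Y) → good X → good Y
  good_ker : ∀ {X Y : A} (f : X ⟶ Y), good X → good Y → good (kernel f)
  good_ext : ∀ (S : ShortComplex A), S.ShortExact → good S.X₁ → good S.X₃ → good S.X₂
  good_P : ∀ {X : A}, P X → good X
  gen : ∀ {Z H : A} (p : Z ⟶ H) [Epi p], good H → ∃ (B : A) (φ : B ⟶ Z), P B ∧ Epi (φ ≫ p)

variable (𝒟 : Data A) (C : ChainComplex A ℕ)

/-- The data in degree `k` of a resolution under construction. -/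
structure Stage (k : ℕ) where
  B : A
  Z : A
  ι : Z ⟶ B
  b : B ⟶ C.X k
  zc : Z ⟶ C.cycles k
  mono : Mono ι
  isP : 𝒟.P B
  goodZ : 𝒟.good Z
  fac : zc ≫ C.iCycles k = ι ≫ b
  epi : Epi (zc ≫ C.homologyπ k)

theorem exists_stage_zero (h : 𝒟.good (C.homology 0)) : ∃ s : Stage 𝒟 C 0, IsIso s.ι := by
  obtain ⟨B, φ, hB, hφ⟩ := 𝒟.gen (C.homologyπ 0) h
  exact ⟨⟨B, B, 𝟙 B, φ ≫ C.iCycles 0, φ, inferInstance, hB, 𝒟.good_P hB, (Category.id_comp _).symm, hφ⟩,
    inferInstanceAs (IsIso (𝟙 B))⟩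

/-- The link between two consecutive stages. -/
structure Link {k : ℕ} (s : Stage 𝒟 C k) (s' : Stage 𝒟 C (k + 1)) where
  d : s'.B ⟶ s.Z
  zero : s'.ι ≫ d = 0
  lift : ∀ ⦃T : A⦄ (x : T ⟶ s'.B), x ≫ d = 0 → ∃ y : T ⟶ s'.Z, y ≫ s'.ι = x
  comm : s'.b ≫ C.d (k + 1) k = d ≫ s.ι ≫ s.b
  exact : ∀ ⦃T : A⦄ (y : T ⟶ s.Z), y ≫ s.zc ≫ C.homologyπ k = 0 →
    ∃ (T' : A) (π : T' ⟶ T) (_ : Epi π) (p : T' ⟶ s'.B), π ≫ y = p ≫ d

theorem exists_next {k : ℕ} (hC : ∀ i, 𝒟.good (C.homology i)) (s : Stage 𝒟 C k) :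
    ∃ s' : Stage 𝒟 C (k + 1), Nonempty (Link 𝒟 C s s') := by
  have hprev : ∀ i : ℕ, (ComplexShape.down ℕ).prev i = i + 1 := fun i => ChainComplex.prev ℕ i
  haveI := s.mono
  haveI := s.epi
  -- pairs of a cycle of the resolution and a chain with the same image
  let T : s.Z ⊞ C.X (k + 1) ⟶ C.cycles k := biprod.desc s.zc (-C.toCycles (k + 1) k)
  let Z' := kernel T
  have hT : kernel.ι T ≫ biprod.fst ≫ s.zc = kernel.ι T ≫ biprod.snd ≫ C.toCycles (k + 1) k := by
    have hTeq : T = biprod.fst ≫ s.zc - biprod.snd ≫ C.toCycles (k + 1) k := by ext <;> simp [T]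
    refine sub_eq_zero.1 ?_
    rw [← Preadditive.comp_sub]
    exact (congrArg (kernel.ι T ≫ ·) hTeq).symm.trans (kernel.condition T)
  have hcz : C.iCycles (k + 1) ≫ C.toCycles (k + 1) k = 0 := by
    rw [← cancel_mono (C.iCycles k), Category.assoc, toCycles_i, iCycles_d, zero_comp]
  let cZ : C.cycles (k + 1) ⟶ Z' := kernel.lift T (biprod.lift 0 (C.iCycles (k + 1))) (by simp [T, hcz])
  let m : C.X (k + 2) ⟶ Z' := C.toCycles (k + 2) (k + 1) ≫ cZ
  let H' := cokernel m
  let α : C.homology (k + 1) ⟶ H' :=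
    (C.homologyIsCokernel (k + 2) (k + 1) (hprev _)).desc (CokernelCofork.ofπ (cZ ≫ cokernel.π m) (by
      rw [← Category.assoc]; exact cokernel.condition m))
  have hα : C.homologyπ (k + 1) ≫ α = cZ ≫ cokernel.π m :=
    Cofork.IsColimit.π_desc (C.homologyIsCokernel (k + 2) (k + 1) (hprev _))
  let W := kernel (s.zc ≫ C.homologyπ k)
  let zw : Z' ⟶ W := kernel.lift _ (kernel.ι T ≫ biprod.fst) (by
    rw [Category.assoc, reassoc_of% hT, toCycles_comp_homologyπ, comp_zero, comp_zero])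
  have hzw : zw ≫ kernel.ι _ = kernel.ι T ≫ biprod.fst := kernel.lift_ι _ _ _
  have hmzw : m ≫ zw = 0 := by
    rw [← cancel_mono (kernel.ι _), Category.assoc, hzw]
    simp [m, cZ]
  let β : H' ⟶ W := cokernel.desc m zw hmzw
  have hab : α ≫ β = 0 := by
    rw [← cancel_epi (C.homologyπ (k + 1)), reassoc_of% hα, cokernel.π_desc, comp_zero,
      ← cancel_mono (kernel.ι _), Category.assoc, hzw]
    simp [cZ]
  haveI : Mono α := by
    refine Preadditive.mono_of_cancel_zero _ fun {T₀} x hx => ?_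
    obtain ⟨T₁, π₁, _, z, hz⟩ := surjective_up_to_refinements_of_epi (C.homologyπ (k + 1)) x
    rw [← cancel_epi π₁, hz, comp_zero]
    have h0 : (z ≫ cZ) ≫ cokernel.π m = 0 := by
      rw [Category.assoc, ← hα, ← reassoc_of% hz, hx, comp_zero]
    obtain ⟨T₂, π₂, _, c, hc⟩ :=
      (ShortComplex.exact_iff_exact_up_to_refinements _).1 (ShortComplex.exact_cokernel m) (z ≫ cZ) h0
    have hc' : π₂ ≫ z = c ≫ C.toCycles (k + 2) (k + 1) := by
      have := congrArg (· ≫ kernel.ι T ≫ biprod.snd) hc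
      simp [m, cZ] at this
      rw [← cancel_mono (C.iCycles (k + 1))]
      simpa using this
    exact (comp_homologyπ_eq_zero_iff_up_to_refinements C _ _ (hprev _) z).2 ⟨T₂, π₂, inferInstance, c, hc'⟩
  haveI : Epi zw := by
    rw [epi_iff_surjective_up_to_refinements]
    intro T₀ w
    obtain ⟨T₁, π₁, _, c, hc⟩ := (comp_homologyπ_eq_zero_iff_up_to_refinements C _ _ (hprev k)
      (w ≫ kernel.ι _ ≫ s.zc)).1 (by rw [Category.assoc, Category.assoc, kernel.condition, comp_zero])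
    refine ⟨T₁, π₁, inferInstance, kernel.lift T (biprod.lift (π₁ ≫ w ≫ kernel.ι _) c) ?_, ?_⟩
    · simp [T, Category.assoc, hc]
    · rw [← cancel_mono (kernel.ι _), Category.assoc, Category.assoc, hzw]
      simp
  haveI : Epi β := by
    exact epi_of_epi_fac (cokernel.π_desc m zw hmzw)
  have hS : (ShortComplex.mk α β hab).ShortExact :=
    { exact := by
        rw [ShortComplex.exact_iff_exact_up_to_refinements]
        intro T₀ h hh
        obtain ⟨T₁, π₁, _, z, hz⟩ := surjective_up_to_refinements_of_epi (cokernel.π m) h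
        have h0 : z ≫ kernel.ι T ≫ biprod.fst = 0 := by
          rw [← hzw, ← Category.assoc, ← cokernel.π_desc m zw hmzw, ← Category.assoc, ← hz, Category.assoc π₁]
          erw [hh]
          simp
        have h1 : (z ≫ kernel.ι T ≫ biprod.snd) ≫ C.d (k + 1) k = 0 := by
          have h2 := congrArg (· ≫ C.iCycles k) ((congrArg (z ≫ ·) hT).symm)
          simp only [Category.assoc, toCycles_i] at h2
          rw [Category.assoc, Category.assoc, h2, reassoc_of% h0, zero_comp]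
        refine ⟨T₁, π₁, inferInstance,
          C.liftCycles (z ≫ kernel.ι T ≫ biprod.snd) k (ChainComplex.next_nat_succ k) h1 ≫
            C.homologyπ (k + 1), ?_⟩
        show π₁ ≫ h = (_ ≫ C.homologyπ (k + 1)) ≫ α
        rw [hz, Category.assoc, hα, ← Category.assoc]
        congr 1
        rw [← cancel_mono (kernel.ι T)]
        ext
        · simp [cZ, h0]
        · simp [cZ] }
  have hH' : 𝒟.good H' := 𝒟.good_ext _ hS (hC _) (𝒟.good_ker _ s.goodZ (hC k))
  obtain ⟨B, φ, hB, hφ⟩ := 𝒟.gen (cokernel.π m) hH'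
  let d : B ⟶ s.Z := φ ≫ kernel.ι T ≫ biprod.fst
  let b : B ⟶ C.X (k + 1) := φ ≫ kernel.ι T ≫ biprod.snd
  have hcomm : b ≫ C.d (k + 1) k = d ≫ s.ι ≫ s.b := by
    have h2 := congrArg (fun q => φ ≫ q ≫ C.iCycles k) hT
    simp only [Category.assoc, toCycles_i, s.fac] at h2
    simp [b, d, h2]
  let zc : kernel d ⟶ C.cycles (k + 1) := C.liftCycles (kernel.ι d ≫ b) k (ChainComplex.next_nat_succ k)
    (by rw [Category.assoc, hcomm, kernel.condition_assoc, zero_comp])
  have hzc : zc ≫ C.iCycles (k + 1) = kernel.ι d ≫ b := by simp [zc]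
  have lift : ∀ ⦃T₀ : A⦄ (z : T₀ ⟶ Z'), ∃ (T₁ : A) (π : T₁ ⟶ T₀) (_ : Epi π) (p : T₁ ⟶ B) (c : T₁ ⟶ C.X (k + 2)),
      π ≫ z = p ≫ φ + c ≫ m := fun T₀ z => by
    obtain ⟨T₁, π₁, _, p, hp⟩ := surjective_up_to_refinements_of_epi (φ ≫ cokernel.π m) (z ≫ cokernel.π m)
    obtain ⟨T₂, π₂, _, c, hc⟩ :=
      (ShortComplex.exact_iff_exact_up_to_refinements _).1 (ShortComplex.exact_cokernel m) (π₁ ≫ z - p ≫ φ)
        (by simpa [sub_eq_zero] using hp)
    refine ⟨T₂, π₂ ≫ π₁, inferInstance, π₂ ≫ p, c, ?_⟩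
    simp only [Preadditive.comp_sub] at hc
    simp only [Category.assoc]
    exact sub_eq_iff_eq_add'.1 hc
  have hmfst : m ≫ kernel.ι T ≫ biprod.fst = 0 := by simp [m, cZ]
  refine ⟨⟨B, kernel d, kernel.ι d, b, zc, inferInstance, hB, 𝒟.good_ker d (𝒟.good_P hB) s.goodZ, hzc, ?_⟩,
    ⟨⟨d, kernel.condition d, fun T₀ x hx => ⟨kernel.lift d x hx, kernel.lift_ι _ _ _⟩, hcomm, ?_⟩⟩⟩
  · rw [epi_iff_surjective_up_to_refinements]
    intro T₀ γ
    obtain ⟨T₁, π₁, _, x, hx⟩ := surjective_up_to_refinements_of_epi (C.homologyπ (k + 1)) γ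
    obtain ⟨T₂, π₂, _, p, c, hpc⟩ := lift (x ≫ cZ)
    have hp : p ≫ d = 0 := by
      have h2 := congrArg (· ≫ kernel.ι T ≫ biprod.fst) hpc
      simp [cZ, m] at h2
      simpa [d] using h2.symm
    refine ⟨T₂, π₂ ≫ π₁, inferInstance, kernel.lift d p hp, ?_⟩
    rw [Category.assoc, hx, ← Category.assoc π₂, ← Category.assoc (kernel.lift d p hp)]
    have h3 : π₂ ≫ x = kernel.lift d p hp ≫ zc + c ≫ C.toCycles (k + 2) (k + 1) := by
      rw [← cancel_mono (C.iCycles (k + 1))]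
      have h2 := congrArg (· ≫ kernel.ι T ≫ biprod.snd) hpc
      simp [cZ, m] at h2
      simp [hzc, b, h2]
    rw [h3, Preadditive.add_comp, Category.assoc, Category.assoc, toCycles_comp_homologyπ, comp_zero, add_zero]
  · intro T₀ y hy
    obtain ⟨T₁, π₁, _, z, hz⟩ := surjective_up_to_refinements_of_epi zw (kernel.lift _ y hy)
    obtain ⟨T₂, π₂, _, p, c, hpc⟩ := lift z
    refine ⟨T₂, π₂ ≫ π₁, inferInstance, p, ?_⟩
    have h1 := congrArg (· ≫ kernel.ι _) hz
    simp only [Category.assoc, kernel.lift_ι, hzw] at h1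
    rw [Category.assoc, h1, ← Category.assoc π₂, hpc, Preadditive.add_comp]
    simp [d, m, cZ]

/-- The chosen stages. -/
def stage (hC : ∀ i, 𝒟.good (C.homology i)) : ∀ k, Stage 𝒟 C k
  | 0 => (exists_stage_zero 𝒟 C (hC 0)).choose
  | k + 1 => (exists_next 𝒟 C hC (stage hC k)).choose

/-- The chosen links. -/
def link (hC : ∀ i, 𝒟.good (C.homology i)) (k : ℕ) : Link 𝒟 C (stage 𝒟 C hC k) (stage 𝒟 C hC (k + 1)) :=
  (exists_next 𝒟 C hC (stage 𝒟 C hC k)).choose_spec.some

theorem isIso_ι_zero (hC : ∀ i, 𝒟.good (C.homology i)) : IsIso (stage 𝒟 C hC 0).ι :=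
  (exists_stage_zero 𝒟 C (hC 0)).choose_spec

/-- The resolution. -/
def L (hC : ∀ i, 𝒟.good (C.homology i)) : ChainComplex A ℕ :=
  ChainComplex.of (fun k => (stage 𝒟 C hC k).B) (fun k => (link 𝒟 C hC k).d ≫ (stage 𝒟 C hC k).ι) fun k => by
    simp only [Category.assoc]
    rw [← Category.assoc ((stage 𝒟 C hC (k + 1)).ι), (link 𝒟 C hC k).zero, zero_comp, comp_zero]

theorem L_d (hC : ∀ i, 𝒟.good (C.homology i)) (k : ℕ) :
    (L 𝒟 C hC).d (k + 1) k = (link 𝒟 C hC k).d ≫ (stage 𝒟 C hC k).ι :=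
  (ChainComplex.of_d (fun k => (stage 𝒟 C hC k).B) (fun k => (link 𝒟 C hC k).d ≫ (stage 𝒟 C hC k).ι) k :)

/-- The map from the resolution. -/
def f (hC : ∀ i, 𝒟.good (C.homology i)) : L 𝒟 C hC ⟶ C where
  f k := (stage 𝒟 C hC k).b
  comm' i j hij := by
    obtain rfl : j + 1 = i := hij
    rw [L_d, Category.assoc]
    exact (link 𝒟 C hC j).comm

theorem lift_cycle (hC : ∀ i, 𝒟.good (C.homology i)) (k : ℕ) ⦃T : A⦄ (x : T ⟶ (stage 𝒟 C hC k).B)
    (hx : x ≫ (L 𝒟 C hC).d k ((ComplexShape.down ℕ).next k) = 0) : ∃ y, y ≫ (stage 𝒟 C hC k).ι = x := by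
  cases k with
  | zero =>
    haveI := isIso_ι_zero 𝒟 C hC
    exact ⟨x ≫ inv (stage 𝒟 C hC 0).ι, by simp⟩
  | succ n =>
    haveI := (stage 𝒟 C hC n).mono
    refine (link 𝒟 C hC n).lift x ?_
    rw [ChainComplex.next_nat_succ, L_d] at hx
    rw [← cancel_mono (stage 𝒟 C hC n).ι, zero_comp, Category.assoc]
    exact hx

theorem ι_d (hC : ∀ i, 𝒟.good (C.homology i)) (k : ℕ) :
    (stage 𝒟 C hC k).ι ≫ (L 𝒟 C hC).d k ((ComplexShape.down ℕ).next k) = 0 := by
  cases k with
  | zero => rw [(L 𝒟 C hC).shape 0 _ (by simp), comp_zero]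
  | succ n =>
    rw [ChainComplex.next_nat_succ, L_d]
    rw [← Category.assoc]
    erw [(link 𝒟 C hC n).zero]
    rw [zero_comp]

theorem quasiIso_f (hC : ∀ i, 𝒟.good (C.homology i)) : QuasiIso (f 𝒟 C hC) := by
  refine ⟨fun k => (quasiIsoAt_iff_isIso_homologyMap _ _).2 ?_⟩
  have hprev : (ComplexShape.down ℕ).prev k = k + 1 := ChainComplex.prev ℕ k
  haveI := (stage 𝒟 C hC k).epi
  haveI : Epi (homologyMap (f 𝒟 C hC) k) := by
    let l : (stage 𝒟 C hC k).Z ⟶ (L 𝒟 C hC).cycles k :=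
      (L 𝒟 C hC).liftCycles (stage 𝒟 C hC k).ι _ rfl (ι_d 𝒟 C hC k)
    have e : (l ≫ (L 𝒟 C hC).homologyπ k) ≫ homologyMap (f 𝒟 C hC) k =
        (stage 𝒟 C hC k).zc ≫ C.homologyπ k := by
      rw [Category.assoc, homologyπ_naturality, ← Category.assoc]
      congr 1
      rw [← cancel_mono (C.iCycles k), Category.assoc, cyclesMap_i, (stage 𝒟 C hC k).fac, ← Category.assoc]
      simp [l]
      rfl
    exact epi_of_epi_fac e
  haveI : Mono (homologyMap (f 𝒟 C hC) k) := by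
    rw [mono_homologyMap_iff_up_to_refinements _ (k + 1) k _ hprev rfl]
    intro T x hx y₁ hy₁
    obtain ⟨y, rfl⟩ := lift_cycle 𝒟 C hC k x hx
    have h0 : y ≫ (stage 𝒟 C hC k).zc ≫ C.homologyπ k = 0 := by
      rw [← Category.assoc]
      refine (comp_homologyπ_eq_zero_iff_up_to_refinements C _ _ hprev _).2
        ⟨T, 𝟙 T, inferInstance, y₁, ?_⟩
      rw [Category.id_comp, ← cancel_mono (C.iCycles k), Category.assoc, Category.assoc, toCycles_i,
        (stage 𝒟 C hC k).fac]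
      exact (Category.assoc _ _ _).symm.trans hy₁
    obtain ⟨T', π, hπ, p, hp⟩ := (link 𝒟 C hC k).exact y h0
    refine ⟨T', π, hπ, p, ?_⟩
    rw [L_d]
    exact (Category.assoc _ _ _).symm.trans ((congrArg (· ≫ (stage 𝒟 C hC k).ι) hp).trans (Category.assoc _ _ _))
  exact isIso_of_mono_of_epi _

include 𝒟 in
/-- **Bounded above complexes with good cohomology are resolved by `P`.** -/
theorem exists_resolution (K : CochainComplex A ℤ) (n : ℤ) [K.IsStrictlyLE n] (hK : ∀ i, 𝒟.good (K.homology i)) :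
    ∃ (M : CochainComplex A ℤ) (g : M ⟶ K), QuasiIso g ∧ (∀ i, n < i → IsZero (M.X i)) ∧
      ∀ i, i ≤ n → ∃ B, 𝒟.P B ∧ Nonempty (M.X i ≅ B) := by
  let e := ComplexShape.embeddingUpIntLE n
  haveI : K.IsStrictlySupported e := ‹K.IsStrictlyLE n›
  have hlift : e.HasLift (𝟙 (K.restriction e)) := fun j hj i' _ => by
    refine IsZero.eq_of_src (K.isZero_X_of_isStrictlySupported e i' fun i hi => ?_) _ _
    exact hj.2 i (hi ▸ (by assumption))
  let u : K ⟶ (K.restriction e).extend e := e.liftExtend (𝟙 (K.restriction e)) hlift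
  haveI : ∀ i, IsIso (u.f i) := fun i' => by
    by_cases h : ∃ i, e.f i = i'
    · obtain ⟨i, hi⟩ := h
      simp only [u, e.liftExtend_f _ hlift hi]
      infer_instance
    · exact ⟨0, (K.isZero_X_of_isStrictlySupported e i' fun i hi => h ⟨i, hi⟩).eq_of_src _ _,
        ((K.restriction e).isZero_extend_X e i' fun i hi => h ⟨i, hi⟩).eq_of_src _ _⟩
  haveI : IsIso u := HomologicalComplex.Hom.isIso_of_components u
  let C : ChainComplex A ℕ := K.restriction e
  have hC : ∀ i, 𝒟.good (C.homology i) := fun i =>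
    𝒟.good_iso ((HomologicalComplex.homologyMapIso (asIso u) (e.f i)) ≪≫ C.extendHomologyIso e rfl) (hK _)
  haveI := quasiIso_f 𝒟 C hC
  haveI : QuasiIso (extendMap (f 𝒟 C hC) e) := (quasiIso_extendMap_iff _ e).2 inferInstance
  refine ⟨(L 𝒟 C hC).extend e, extendMap (f 𝒟 C hC) e ≫ inv u, inferInstance, fun i hi => ?_, fun i hi => ?_⟩
  · refine (L 𝒟 C hC).isZero_extend_X e i fun k hk => ?_
    simp [e] at hk
    omega
  · exact ⟨_, (stage 𝒟 C hC (n - i).toNat).isP, ⟨(L 𝒟 C hC).extendXIso e (by simp [e]; omega)⟩⟩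

end Groth.Agent.UnbddLib.Resol
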