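import Groth.Agent.PBCLib.ModForget
import Groth.Agent.EtSixLib.PullExact
import Groth.Agent.S0648
import Groth.Agent.KInj.Restrict
import Groth.Prelude.Def_EtDl

/-!
# Extension by zero of sheaves of modules is exact
-/

set_option autoImplicit false
set_option linter.style.haveILetI false
set_option backward.isDefEq.respectTransparency false
set_option backward.isDefEq.respectTransparency.types false
set_option synthInstance.maxHeartbeats 200000
set_option maxHeartbeats 1000000

universe u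

open CategoryTheory CategoryTheory.Limits AlgebraicGeometry Opposite

noncomputable section

namespace Groth.Agent.UnbddLib

open PBCLib (fgt)

variable (Λ : Type (u + 1)) [CommRing Λ] {U X : Scheme.{u}} (j : U ⟶ X) [Etale j] [EtShriek.JCont j]

/-- The comparison of extensions by zero. -/
def fgtExtZero (F : EtModW.Mod Λ U) :
    (EtShriek.extZero j).obj ((fgt Λ U).obj F) ⟶ (fgt Λ X).obj ((EtDl.extZeroMod Λ j).obj F) :=
  ((EtShriek.extZeroAdj j).homEquiv _ _).symm ((fgt Λ U).map ((EtDl.extZeroModAdj Λ j).unit.app F))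

theorem homEquiv_fgtExtZero (F : EtModW.Mod Λ U) :
    (EtShriek.extZeroAdj j).homEquiv _ _ (fgtExtZero Λ j F) = (fgt Λ U).map ((EtDl.extZeroModAdj Λ j).unit.app F) :=
  Equiv.apply_symm_apply _ _

theorem fgtExtZero_comp_eq (F : EtModW.Mod Λ U) (J : EtCoh.Ab X)
    (φ : (fgt Λ X).obj ((EtDl.extZeroMod Λ j).obj F) ⟶ J) :
    (EtShriek.extZeroAdj j).homEquiv _ _ (fgtExtZero Λ j F ≫ φ) =
      ((EtSixLib.sheafForgetCoindAdj Λ U).homEquiv F ((EtShriek.restrAlong j).obj J)).symm
        ((EtDl.extZeroModAdj Λ j).homEquiv _ _ ((EtSixLib.sheafForgetCoindAdj Λ X).homEquiv _ _ φ)) := by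
  rw [Adjunction.homEquiv_naturality_right, homEquiv_fgtExtZero]
  set ψ := (EtSixLib.sheafForgetCoindAdj Λ X).homEquiv _ _ φ with hψ
  rw [Adjunction.homEquiv_unit]
  refine Eq.trans ?_ ((EtSixLib.sheafForgetCoindAdj Λ U).homEquiv_naturality_left_symm
    (Y := (EtShriek.restrAlong j).obj J) ((EtDl.extZeroModAdj Λ j).unit.app F)
      ((EtDl.restrMod Λ j).map ψ)).symm
  refine congrArg ((fgt Λ U).map ((EtDl.extZeroModAdj Λ j).unit.app F) ≫ ·) ?_
  have hφ : φ = (fgt Λ X).map ψ ≫ (EtSixLib.sheafForgetCoindAdj Λ X).counit.app J :=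
    (((EtSixLib.sheafForgetCoindAdj Λ X).homEquiv _ _).symm_apply_apply φ).symm.trans
      (Adjunction.homEquiv_counit _ _ _ _)
  rw [hφ, Functor.map_comp, Adjunction.homEquiv_counit]
  rfl

theorem isIso_fgtExtZero (F : EtModW.Mod Λ U) : IsIso (fgtExtZero Λ j F) := by
  refine (isIso_iff_coyoneda_map_bijective _).2 fun J => ?_
  have e : (fun φ : (fgt Λ X).obj ((EtDl.extZeroMod Λ j).obj F) ⟶ J => fgtExtZero Λ j F ≫ φ) =
      (((EtSixLib.sheafForgetCoindAdj Λ X).homEquiv _ _).trans
        (((EtDl.extZeroModAdj Λ j).homEquiv _ _).trans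
          (((EtSixLib.sheafForgetCoindAdj Λ U).homEquiv F ((EtShriek.restrAlong j).obj J)).symm.trans
            ((EtShriek.extZeroAdj j).homEquiv _ _).symm))) := funext fun φ =>
    (Equiv.eq_symm_apply _).2 (fgtExtZero_comp_eq Λ j F J φ)
  rw [e]
  exact Equiv.bijective _

theorem fgtExtZero_natural {F G : EtModW.Mod Λ U} (a : F ⟶ G) :
    (EtShriek.extZero j).map ((fgt Λ U).map a) ≫ fgtExtZero Λ j G =
      fgtExtZero Λ j F ≫ (fgt Λ X).map ((EtDl.extZeroMod Λ j).map a) := by
  apply ((EtShriek.extZeroAdj j).homEquiv _ _).injective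
  rw [Adjunction.homEquiv_naturality_left, Adjunction.homEquiv_naturality_right, homEquiv_fgtExtZero,
    homEquiv_fgtExtZero]
  show (fgt Λ U).map a ≫ (fgt Λ U).map _ =
    (fgt Λ U).map _ ≫ (fgt Λ U).map ((EtDl.restrMod Λ j).map ((EtDl.extZeroMod Λ j).map a))
  refine ((fgt Λ U).map_comp _ _).symm.trans (Eq.trans ?_ ((fgt Λ U).map_comp _ _))
  exact congrArg (fgt Λ U).map ((EtDl.extZeroModAdj Λ j).unit.naturality a)

instance preservesFiniteLimits_extZeroMod : PreservesFiniteLimits (EtDl.extZeroMod Λ j) := by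
  haveI := Groth.Agent.S0648.result j
  haveI : (EtDl.extZeroMod Λ j).PreservesMonomorphisms := ⟨fun {F G} a ha => by
    refine (fgt Λ X).mono_of_mono_map ?_
    haveI := isIso_fgtExtZero Λ j F
    haveI := isIso_fgtExtZero Λ j G
    haveI : PreservesFiniteLimits (fgt Λ U) := by
      refine ⟨fun J _ _ => ?_⟩
      haveI : PreservesLimitsOfShape J
          (EtModD.forgetToAb Λ U ⋙ sheafToPresheaf U.smallEtaleTopology AddCommGrpCat.{u + 1}) :=
        inferInstanceAs (PreservesLimitsOfShape J (sheafToPresheaf U.smallEtaleTopology (ModuleCat.{u + 1} Λ) ⋙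
          (Functor.whiskeringRight _ _ _).obj (forget₂ (ModuleCat.{u + 1} Λ) AddCommGrpCat.{u + 1})))
      exact preservesLimitsOfShape_of_reflects_of_preserves (EtModD.forgetToAb Λ U)
        (sheafToPresheaf U.smallEtaleTopology AddCommGrpCat.{u + 1})
    haveI : Mono ((fgt Λ U).map a) := inferInstance
    have e : (fgt Λ X).map ((EtDl.extZeroMod Λ j).map a) =
        inv (fgtExtZero Λ j F) ≫ (EtShriek.extZero j).map ((fgt Λ U).map a) ≫ fgtExtZero Λ j G := by
      rw [fgtExtZero_natural, IsIso.inv_hom_id_assoc]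
    rw [e]
    infer_instance⟩
  exact KInj.preservesFiniteLimits_of_preservesMonomorphisms (EtDl.extZeroModAdj Λ j)

end Groth.Agent.UnbddLib
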