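import Groth.Agent.UnbddLib.ModBC
import Groth.Agent.CdFieldLib.Rows
import Groth.Agent.CdFieldLib.FibreBound
import Groth.Agent.RpushSumLib.Push
import Groth.Agent.SmoothBCLib.Stalks

/-!
# Derived direct images along proper morphisms preserve direct sums

For a torsion ring of coefficients the higher direct images along a proper morphism vanish above twice the
dimension of the fibre, pointwise on the base; hence complexes of acyclic sheaves compute `Rf_*`.
-/

set_option autoImplicit false
set_option linter.style.haveILetI false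
set_option linter.unusedSectionVars false
set_option backward.isDefEq.respectTransparency false
set_option backward.isDefEq.respectTransparency.types false
set_option maxHeartbeats 1000000
set_option synthInstance.maxHeartbeats 400000

universe u

open CategoryTheory CategoryTheory.Limits AlgebraicGeometry Opposite Groth.Agent.KInj

attribute [local instance] HasDerivedCategory.standard

noncomputable section

namespace Groth.Agent.UnbddLib

attribute [local instance] Groth.Agent.S0101.result

/-- The geometric fibres of a proper morphism have finite cohomological dimension. -/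
theorem exists_stalk_bound {X S : Scheme.{u}} (f : X ⟶ S) [IsProper f] {Ω : Type u} [Field Ω] [IsSepClosed Ω]
    (ξ : Spec (CommRingCat.of Ω) ⟶ S) : ∃ d : ℕ, ∀ (F : EtCoh.Ab X), EtCoh.IsTorsion F → ∀ q : ℕ, d < q →
      IsZero ((EtCoh.stalk ξ).obj ((EtCoh.Rpush f q).obj F)) := by
  let p := pullback.snd f ξ
  haveI : CompactSpace ↥(pullback f ξ) := QuasiCompact.compactSpace_of_compactSpace p
  haveI : LocallyOfFiniteType p := MorphismProperty.pullback_snd _ _ inferInstance
  obtain ⟨N, hN⟩ := CdFieldLib.exists_fibre_dim_le p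
  let y : Spec (CommRingCat.of Ω) := default
  have hp : ∀ z : ↥(pullback f ξ), z ∈ Set.range (p.fiberι y) := fun z => by
    rw [p.range_fiberι y]
    exact Subsingleton.elim _ _
  have hd : topologicalKrullDim ↥(pullback f ξ) ≤ N := by
    let e := (p.fiberι y).isEmbedding.toHomeomorphOfSurjective hp
    exact (e.symm.isInducing.topologicalKrullDim_le).trans (hN y)
  refine ⟨2 * N, fun F hF q hq => ?_⟩
  obtain ⟨e⟩ := PBCLib.nonempty_stalk_Rpush_iso (fun {_ _} g _ => PBCLib.bcAll_of_proper g) f ξ F hF q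
  haveI := (CdFieldLib.cdLE_finiteType (CdFieldLib.cdLE_zero_of_sepClosed Set.univ Ω) p
    (CdFieldLib.height_le_of_topologicalKrullDim_le hd)).mono (show _ ≤ 2 * N by omega) _
      (AcycCompLib.isLTorsion_pull (pullback.fst f ξ) (RpushTorsLib.isLTorsion_univ hF)) q hq
  exact (AddCommGrpCat.isZero_of_subsingleton _).of_iso e

variable {Λ : Type (u + 1)} [CommRing Λ] {n : ℕ} (hn : 0 < n) (hΛ : (n : Λ) = 0)
  {X S : Scheme.{u}} (f : X ⟶ S)

section Exact

variable [IsProper f]

include hn hΛ

/-- Direct image of an exact complex of acyclic sheaves of modules is exact. -/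
theorem exactAt_pushMod (L : CochainComplex (EtModW.Mod Λ X) ℤ) (hL : ∀ i, Acyc Λ f (L.X i))
    (hex : ∀ i, L.ExactAt i) (i : ℤ) :
    (((EtModW.push Λ f).mapHomologicalComplex (ComplexShape.up ℤ)).obj L).ExactAt i := by
  let T : ℤ → ShortComplex (EtModW.Mod Λ X) := fun m =>
    ShortComplex.mk (kernel.ι (L.d m (m + 1))) (kernel.lift (L.d (m + 1) (m + 1 + 1)) (L.d m (m + 1))
      (L.d_comp_d _ _ _)) (by rw [← cancel_mono (kernel.ι _), Category.assoc, kernel.lift_ι, kernel.condition, zero_comp])
  have hT : ∀ m, (T m).ShortExact := fun m => SpSeqLib.shortExact_kernel L hex m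
  let U : ℤ → ShortComplex (EtCoh.Ab X) := fun m => (T m).map (EtModD.forgetToAb Λ X)
  have hU : ∀ m, (U m).ShortExact := fun m => (hT m).map_of_exact _
  obtain ⟨Δ⟩ := RDerLib.nonempty_derivedLES (EtCoh.push f)
  have hz : ∀ m, IsZero ((EtCoh.Rpush f 1).obj (U m).X₁) := fun m => (EtPtsLib.isZero_iff_ab _).2 fun Ω _ _ ξ => by
    obtain ⟨d, hd⟩ := exists_stalk_bound f ξ
    haveI : (EtCoh.stalk ξ).Additive := Functor.additive_of_preserves_binary_products _
    have key : ∀ k : ℕ, ∀ q : ℕ, d < q + 1 + k → ∀ m, IsZero ((EtCoh.stalk ξ).obj ((EtCoh.Rpush f (q + 1)).obj (U m).X₁)) := by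
      intro k
      induction k with
      | zero =>
        intro q hq m
        exact hd _ (PBCLib.isTorsion_of_killedBy' hn (killedBy_fgt hΛ _)) (q + 1) (by omega)
      | succ k ih =>
        intro q hq m
        obtain ⟨m', rfl⟩ : ∃ m', m = m' + 1 := ⟨m - 1, by omega⟩
        have hδ : Mono (Δ.δ (U m') (hU m') (q + 1) (q + 1 + 1) rfl) :=
          (Δ.exact₃ (U m') (hU m') (q + 1) (q + 1 + 1) rfl).mono_g ((hL m' q).eq_of_src _ _)
        haveI := hδ
        haveI : Mono ((EtCoh.stalk ξ).map (Δ.δ (U m') (hU m') (q + 1) (q + 1 + 1) rfl)) := inferInstance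
        exact IsZero.of_mono ((EtCoh.stalk ξ).map (Δ.δ (U m') (hU m') (q + 1) (q + 1 + 1) rfl))
          (ih (q + 1) (by omega) m')
    exact key d 0 (by omega) m
  -- exactness
  obtain ⟨p, rfl⟩ : ∃ p, i = p + 1 := ⟨i - 1, by omega⟩
  haveI : (EtCoh.push f).Additive := (EtCoh.pullPushAdj f).right_adjoint_additive
  haveI : PreservesFiniteLimits (EtCoh.push f) :=
    (EtCoh.pullPushAdj f).rightAdjoint_preservesLimits.{0, 0}.preservesFiniteLimits
  haveI : PreservesFiniteLimits (EtModW.push Λ f) :=
    (EtSix.pullPushModAdj Λ f).rightAdjoint_preservesLimits.{0, 0}.preservesFiniteLimits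
  haveI hepi : Epi ((EtModW.push Λ f).map (T p).g) := by
    refine (EtModD.forgetToAb Λ S).epi_of_epi_map ?_
    show Epi ((EtCoh.push f).map (U p).g)
    haveI : Epi ((EtCoh.Rpush f 0).map (U p).g) :=
      (Δ.exact₃ (U p) (hU p) 0 1 rfl).epi_f ((hz p).eq_of_tgt _ _)
    have hnat := (EtCoh.push f).toRightDerivedZero.naturality (U p).g
    have : Epi ((EtCoh.push f).map (U p).g ≫ (EtCoh.push f).toRightDerivedZero.app (U p).X₃) := by
      rw [hnat]
      exact epi_comp _ _
    haveI := this
    rw [← Category.comp_id ((EtCoh.push f).map (U p).g), ← IsIso.hom_inv_id ((EtCoh.push f).toRightDerivedZero.app (U p).X₃),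
      ← Category.assoc]
    exact epi_comp _ _
  rw [HomologicalComplex.exactAt_iff' _ p (p + 1) (p + 1 + 1) (by simp) (by simp)]
  let hk := isLimitForkMapOfIsLimit' (EtModW.push Λ f) (kernel.condition (L.d (p + 1) (p + 1 + 1)))
    (kernelIsKernel (L.d (p + 1) (p + 1 + 1)))
  rw [ShortComplex.exact_iff_exact_up_to_refinements]
  intro W x hx
  obtain ⟨y, hy⟩ := KernelFork.IsLimit.lift' hk x hx
  obtain ⟨W', π, hπ, x', hx'⟩ := surjective_up_to_refinements_of_epi ((EtModW.push Λ f).map (T p).g) y
  refine ⟨W', π, hπ, x', ?_⟩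
  refine ((congrArg (π ≫ ·) hy).symm.trans ?_)
  refine (Category.assoc _ _ _).symm.trans ((congrArg (· ≫ _) hx').trans ((Category.assoc _ _ _).trans ?_))
  exact congrArg (x' ≫ ·) (((EtModW.push Λ f).map_comp _ _).symm.trans (congrArg _ (kernel.lift_ι _ _ _)))

end Exact

section Sum

variable (ι : Type (u + 1))

instance preservesColimits_fgt (Y : Scheme.{u}) :
    PreservesColimitsOfShape (Discrete ι) (EtModD.forgetToAb Λ Y) :=
  (EtSixLib.sheafForgetCoindAdj Λ Y).leftAdjoint_preservesColimits.preservesColimitsOfShape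

variable [QuasiCompact f] [QuasiSeparated f]

/-- Direct image of sheaves of modules preserves direct sums. -/
theorem preservesCoproducts_pushMod : PreservesColimitsOfShape (Discrete ι) (EtModW.push Λ f) := by
  haveI := RpushSumLib.preservesCoproducts_push f ι
  haveI : PreservesColimitsOfShape (Discrete ι) (EtModW.push Λ f ⋙ EtModD.forgetToAb Λ S) :=
    inferInstanceAs (PreservesColimitsOfShape (Discrete ι) (EtModD.forgetToAb Λ X ⋙ EtCoh.push f))
  haveI : IsGrothendieckAbelian.{u + 1} (EtModW.Mod Λ S) := inferInstance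
  haveI : HasColimits (EtModW.Mod Λ S) := IsGrothendieckAbelian.hasColimits _
  haveI : ReflectsColimitsOfShape (Discrete ι) (EtModD.forgetToAb Λ S) :=
    reflectsColimitsOfShape_of_reflectsIsomorphisms
  exact preservesColimitsOfShape_of_reflects_of_preserves (EtModW.push Λ f) (EtModD.forgetToAb Λ S)

/-- Direct sums of acyclic sheaves are acyclic. -/
theorem acyc_sigma {M : ι → EtModW.Mod Λ X} {c : Cofan M} (hc : IsColimit c) (hM : ∀ i, Acyc Λ f (M i)) :
    Acyc Λ f c.pt := by
  intro p
  refine SmoothBCLib.isZero_Rpush_of_strictLoc f _ (p + 1) fun s R _ _ _ _ _ _ => ?_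
  let u := Hens2.specOf S s R
  haveI : CompactSpace ↥(pullback f u) := QuasiCompact.compactSpace_of_compactSpace (pullback.snd f u)
  haveI : QuasiSeparatedSpace ↥(pullback f u) := quasiSeparatedSpace_of_quasiSeparated (pullback.snd f u)
  let P := pullback.fst f u
  haveI : PreservesColimitsOfShape (Discrete ι) (EtCoh.pull P) :=
    (EtCoh.pullPushAdj P).leftAdjoint_preservesColimits.preservesColimitsOfShape
  haveI := CohColim.preserves_HF (X := pullback f u) (p + 1) (Finset (Discrete ι))
  haveI : (EtCoh.HF (pullback f u) (p + 1)).Additive := PBCLib.HF_additive _ _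
  haveI := RpushSumLib.preservesColimitsOfShape_discrete ι (EtCoh.HF (pullback f u) (p + 1))
  let G := EtModD.forgetToAb Λ X ⋙ EtCoh.pull P ⋙ EtCoh.HF (pullback f u) (p + 1)
  have h := isColimitOfPreserves G hc
  have hz : IsZero (G.obj c.pt) := by
    rw [IsZero.iff_id_eq_zero]
    refine h.hom_ext fun i => IsZero.eq_of_src ?_ _ _
    exact @AddCommGrpCat.isZero_of_subsingleton _ (SmoothBCLib.subsingleton_H_of_isZero f _ (p + 1) (hM i.as p) s R)
  exact AddCommGrpCat.subsingleton_of_isZero hz

end Sum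

section Derived

variable [IsProper f] [EtBC.HasRpushMod Λ f]

include hn hΛ

/-- `Rf_*` is computed by complexes of acyclic sheaves. -/
theorem isIso_unitM_of_acyclic_proper (L : CochainComplex (EtModW.Mod Λ X) ℤ) (hL : ∀ i, Acyc Λ f (L.X i)) :
    IsIso ((unitM Λ f).app ((HomotopyCategory.quotient _ (ComplexShape.up ℤ)).obj L)) := by
  haveI : IsGrothendieckAbelian.{u + 1} (EtModW.Mod Λ X) := inferInstance
  obtain ⟨I, s, hI, hs, -, hinj⟩ := KInj.exists_isKInjective_resolution L
  haveI := hI
  haveI := hs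
  haveI := hinj
  let q := HomotopyCategory.quotient (EtModW.Mod Λ X) (ComplexShape.up ℤ)
  haveI := isIso_unitM Λ f I
  haveI : IsIso (DerivedCategory.Qh.map (q.map s)) := by
    rw [DerivedCategory.isIso_Qh_map_iff, HomotopyCategory.quotient_map_mem_quasiIso_iff,
      HomologicalComplex.mem_quasiIso_iff]
    exact hs
  haveI h1 : IsIso ((EtBC.pushModKh Λ f).map (q.map s)) := by
    show IsIso (DerivedCategory.Qh.map ((HomotopyCategory.quotient (EtModW.Mod Λ S) (ComplexShape.up ℤ)).map
      (((EtModW.push Λ f).mapHomologicalComplex _).map s)))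
    rw [DerivedCategory.isIso_Qh_map_iff, HomotopyCategory.quasiIso_eq_trW_subcategoryAcyclic]
    refine ((HomotopyCategory.subcategoryAcyclic (EtModW.Mod Λ S)).trW_iff_of_distinguished _
      (HomotopyCategory.mappingCone_triangleh_distinguished (((EtModW.push Λ f).mapHomologicalComplex _).map s))).2 ?_
    show HomotopyCategory.subcategoryAcyclic (EtModW.Mod Λ S)
      ((HomotopyCategory.quotient _ (ComplexShape.up ℤ)).obj _)
    rw [HomotopyCategory.quotient_obj_mem_subcategoryAcyclic_iff_acyclic]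
    intro m
    refine HomologicalComplex.ExactAt.of_iso ?_
      (CochainComplex.mappingCone.mapHomologicalComplexIso s (EtModW.push Λ f))
    refine exactAt_pushMod hn hΛ f _ (fun i => ?_) (FilDLib.exactAt_mappingCone_of_quasiIso s) m
    let F := EtModD.forgetToAb Λ X
    refine SpSeqLib.isAcyclicFor_of_biprod _
      (F.map ((CochainComplex.mappingCone.inl s).v (i + 1) i (by omega)))
      (F.map ((CochainComplex.mappingCone.inr s).f i))
      (F.map ((CochainComplex.mappingCone.fst s).1.v i (i + 1) rfl))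
      (F.map ((CochainComplex.mappingCone.snd s).v i i (add_zero i))) ?_ (hL (i + 1))
      (PBCLib.isAcyclicFor_forget_injective f Λ (I.X i))
    rw [← F.map_comp, ← F.map_comp, ← F.map_add, CochainComplex.mappingCone.id_X s i (i + 1) rfl, F.map_id]
  haveI : IsIso ((DerivedCategory.Qh ⋙ EtBC.RpushModD Λ f).map (q.map s)) :=
    inferInstanceAs (IsIso ((EtBC.RpushModD Λ f).map (DerivedCategory.Qh.map (q.map s))))
  have hn := (unitM Λ f).naturality (q.map s)
  have h2 : (unitM Λ f).app (q.obj L) = (EtBC.pushModKh Λ f).map (q.map s) ≫ (unitM Λ f).app (q.obj I) ≫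
      inv ((DerivedCategory.Qh ⋙ EtBC.RpushModD Λ f).map (q.map s)) := by
    rw [← Category.assoc, hn, Category.assoc, IsIso.hom_inv_id, Category.comp_id]
  rw [h2]
  infer_instance

/-- **`Rf_*` preserves direct sums.** -/
theorem preservesCoproducts_RpushModD (ι : Type (u + 1)) :
    PreservesColimitsOfShape (Discrete ι) (EtBC.RpushModD Λ f) := by
  haveI : IsGrothendieckAbelian.{u + 1} (EtModW.Mod Λ X) := inferInstance
  haveI : IsGrothendieckAbelian.{u + 1} (EtModW.Mod Λ S) := inferInstance
  haveI := IsGrothendieckAbelian.hasColimits (EtModW.Mod Λ X)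
  haveI := IsGrothendieckAbelian.hasColimits (EtModW.Mod Λ S)
  refine ⟨fun {K} => ?_⟩
  choose I hI hinj he using fun i : ι => exists_injective_model (K.obj ⟨i⟩)
  let qX := HomotopyCategory.quotient (EtModW.Mod Λ X) (ComplexShape.up ℤ)
  let D : Discrete ι ⥤ CochainComplex (EtModW.Mod Λ X) ℤ := Discrete.functor I
  let e : D ⋙ (qX ⋙ DerivedCategory.Qh) ≅ K := Discrete.natIso fun i => (he i.as).some
  suffices PreservesColimit (D ⋙ (qX ⋙ DerivedCategory.Qh)) (EtBC.RpushModD Λ f) from
    preservesColimit_of_iso_diagram _ e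
  haveI := RpushSumLib.preservesCoproducts_quotientQh (A := EtModW.Mod Λ X) ι (hresMod Λ X)
  haveI := RpushSumLib.preservesCoproducts_quotientQh (A := EtModW.Mod Λ S) ι (hresMod Λ S)
  haveI := preservesCoproducts_pushMod (Λ := Λ) f ι
  refine preservesColimit_of_preserves_colimit_cocone
    (isColimitOfPreserves (qX ⋙ DerivedCategory.Qh) (colimit.isColimit D)) ?_
  let Ψ := (EtModW.push Λ f).mapHomologicalComplex (ComplexShape.up ℤ) ⋙
    HomotopyCategory.quotient (EtModW.Mod Λ S) (ComplexShape.up ℤ) ⋙ DerivedCategory.Qh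
  haveI : PreservesColimitsOfShape (Discrete ι) Ψ := inferInstance
  let η : Ψ ⟶ (qX ⋙ DerivedCategory.Qh) ⋙ EtBC.RpushModD Λ f :=
    { app := fun L => (unitM Λ f).app (qX.obj L)
      naturality := fun L M a => (unitM Λ f).naturality (qX.map a) }
  haveI hηI : ∀ i, IsIso (η.app (D.obj i)) := fun i => haveI := hI i.as; isIso_unitM Λ f (I i.as)
  haveI hηc : IsIso (η.app (colimit D)) := by
    refine isIso_unitM_of_acyclic_proper hn hΛ f _ fun m => ?_
    let c : Cofan fun i => (I i).X m := Cofan.mk ((colimit D).X m) fun i => (colimit.ι D ⟨i⟩).f m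
    have hc : IsColimit c := isColimitCofanMkObjOfIsColimit
      (HomologicalComplex.eval (EtModW.Mod Λ X) (ComplexShape.up ℤ) m) _ _
      (Cofan.IsColimit.mk (Cofan.mk (colimit D) fun i => colimit.ι D ⟨i⟩)
        (fun s => colimit.desc D ⟨s.pt, Discrete.natTrans fun j => s.inj j.as⟩)
        (fun s i => colimit.ι_desc _ _)
        (fun s m' hm => (colimit.isColimit D).uniq ⟨s.pt, Discrete.natTrans fun j => s.inj j.as⟩ m'
          fun ⟨j⟩ => hm j))
    exact acyc_sigma f ι hc fun i => haveI := hinj i m; PBCLib.isAcyclicFor_forget_injective f Λ ((I i).X m)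
  let α : D ⋙ Ψ ≅ (D ⋙ qX ⋙ DerivedCategory.Qh) ⋙ EtBC.RpushModD Λ f :=
    NatIso.ofComponents (fun i => @asIso _ _ (Ψ.obj (D.obj i))
      ((EtBC.RpushModD Λ f).obj ((qX ⋙ DerivedCategory.Qh).obj (D.obj i))) (η.app (D.obj i)) (hηI i))
      (fun a => η.naturality (D.map a))
  exact IsColimit.equivOfNatIsoOfIso α (Ψ.mapCocone (colimit.cocone D))
    ((EtBC.RpushModD Λ f).mapCocone ((qX ⋙ DerivedCategory.Qh).mapCocone (colimit.cocone D)))
    (Cocone.ext (@asIso _ _ (Ψ.obj (colimit D))
      ((EtBC.RpushModD Λ f).obj ((qX ⋙ DerivedCategory.Qh).obj (colimit D))) (η.app (colimit D)) hηc) fun i => by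
      show (α.inv.app i ≫ Ψ.map (colimit.ι D i)) ≫ η.app (colimit D) =
        (EtBC.RpushModD Λ f).map ((qX ⋙ DerivedCategory.Qh).map (colimit.ι D i))
      rw [Category.assoc, η.naturality (colimit.ι D i)]
      exact IsIso.inv_hom_id_assoc (η.app (D.obj i)) _)
    (isColimitOfPreserves Ψ (colimit.isColimit D))
where
  exists_injective_model (M : EtModD.D Λ X) : ∃ I : CochainComplex (EtModW.Mod Λ X) ℤ, I.IsKInjective ∧
      (∀ m, Injective (I.X m)) ∧
        Nonempty (DerivedCategory.Qh.obj ((HomotopyCategory.quotient _ (ComplexShape.up ℤ)).obj I) ≅ M) := by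
    haveI : IsGrothendieckAbelian.{u + 1} (EtModW.Mod Λ X) := inferInstance
    obtain ⟨I, s, hI, hs, -, hinj⟩ := KInj.exists_isKInjective_resolution (DerivedCategory.Q.objPreimage M)
    haveI := hs
    exact ⟨I, hI, hinj, ⟨(DerivedCategory.quotientCompQhIso _).app I ≪≫
      (asIso (DerivedCategory.Q.map s)).symm ≪≫ DerivedCategory.Q.objObjPreimageIso M⟩⟩

end Derived

end Groth.Agent.UnbddLib
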