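import Groth.Agent.UnbddLib.ModAdj
import Groth.Agent.CompBCLib.Killed

/-!
# Base change for unbounded complexes of sheaves of modules over a torsion ring

If base change holds in every degree for abelian sheaves killed by `n` and `n` vanishes in `Λ`, then the
base change morphism is an isomorphism on bounded below complexes of `Λ`-modules, hence on all complexes
when both direct images preserve direct sums.
-/

set_option autoImplicit false
set_option linter.style.haveILetI false
set_option linter.unusedSectionVars false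
set_option backward.isDefEq.respectTransparency false
set_option backward.isDefEq.respectTransparency.types false
set_option maxHeartbeats 1000000
set_option synthInstance.maxHeartbeats 400000

universe u

open CategoryTheory CategoryTheory.Limits AlgebraicGeometry Opposite Groth.Agent.KInj

attribute [local instance] HasDerivedCategory.standard

noncomputable section

namespace Groth.Agent.UnbddLib

attribute [local instance] Groth.Agent.S0101.result

open PBCLib (fgt fgtPull isIso_fgtPull fgt_baseChange0)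

variable {Λ : Type (u + 1)} [CommRing Λ]

/-- Sheaves of modules over a ring in which `n` vanishes are killed by `n`. -/
theorem killedBy_fgt {n : ℕ} (hΛ : (n : Λ) = 0) {X : Scheme.{u}} (M : EtModW.Mod Λ X) :
    EtCoh.KilledBy n ((fgt Λ X).obj M) := fun U s => by
  let x : ↑(M.obj.obj (op U)) := s
  have h : n • x = 0 := by rw [← Nat.cast_smul_eq_nsmul Λ, hΛ, zero_smul]
  exact h

variable (Λ) in
/-- The underlying abelian sheaf has no higher direct images. -/
abbrev Acyc {X S : Scheme.{u}} (f : X ⟶ S) (M : EtModW.Mod Λ X) : Prop :=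
  SpSeqLib.IsAcyclicFor (EtCoh.push f) ((fgt Λ X).obj M)

section Acyclic

variable {X S : Scheme.{u}} (f : X ⟶ S)

/-- Direct image of a quasi-isomorphism between bounded below complexes of acyclic objects. -/
theorem quasiIso_push {K L : CochainComplex (EtModW.Mod Λ X) ℤ} (φ : K ⟶ L) [QuasiIso φ] (a : ℤ)
    [K.IsStrictlyGE a] [L.IsStrictlyGE a] (hK : ∀ i, Acyc Λ f (K.X i)) (hL : ∀ i, Acyc Λ f (L.X i)) :
    QuasiIso (((EtModW.push Λ f).mapHomologicalComplex (ComplexShape.up ℤ)).map φ) := by
  refine (HomologicalComplex.quasiIso_map_iff_of_preservesHomology _ (EtModD.forgetToAb Λ S)).1 ?_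
  let Φ := (EtModD.forgetToAb Λ X).mapHomologicalComplex (ComplexShape.up ℤ)
  haveI : CochainComplex.IsStrictlyGE (Φ.obj K) a := (CochainComplex.isStrictlyGE_iff _ a).2 fun i hi =>
    (EtModD.forgetToAb Λ X).map_isZero (CochainComplex.isZero_of_isStrictlyGE K a i hi)
  haveI : CochainComplex.IsStrictlyGE (Φ.obj L) a := (CochainComplex.isStrictlyGE_iff _ a).2 fun i hi =>
    (EtModD.forgetToAb Λ X).map_isZero (CochainComplex.isZero_of_isStrictlyGE L a i hi)
  haveI : QuasiIso (Φ.map φ) := inferInstance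
  haveI := (EtCoh.pullPushAdj f).right_adjoint_additive
  exact SpSeqLib.quasiIso_map (EtCoh.push f) (Φ.map φ) a hK hL

/-- Bounded below complexes of acyclic objects compute the derived direct image. -/
theorem isIso_unitM_of_acyclic [EtBC.HasRpushMod Λ f] (C : CochainComplex (EtModW.Mod Λ X) ℤ) (a : ℤ)
    [C.IsStrictlyGE a] (hac : ∀ i, Acyc Λ f (C.X i)) :
    IsIso ((unitM Λ f).app ((HomotopyCategory.quotient _ (ComplexShape.up ℤ)).obj C)) := by
  haveI : IsGrothendieckAbelian.{u + 1} (EtModW.Mod Λ X) := inferInstance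
  obtain ⟨J, i, hi, hJ, hJa⟩ := CochainComplex.Plus.modelCategoryQuillen.exists_quasiIso_injective C a
  haveI := hi
  haveI := hJa
  haveI : ∀ m, Injective (J.X m) := hJ
  haveI := CochainComplex.isKInjective_of_injective J a
  haveI h1 : QuasiIso (((EtModW.push Λ f).mapHomologicalComplex (ComplexShape.up ℤ)).map i) :=
    quasiIso_push f i a hac fun m => PBCLib.isAcyclicFor_forget_injective f Λ (J.X m)
  let q := HomotopyCategory.quotient (EtModW.Mod Λ X) (ComplexShape.up ℤ)
  haveI h2 : IsIso ((EtBC.pushModKh Λ f).map (q.map i)) := by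
    show IsIso (DerivedCategory.Qh.map (((EtModW.push Λ f).mapHomotopyCategory _).map (q.map i)))
    rw [DerivedCategory.isIso_Qh_map_iff]
    exact (HomotopyCategory.quotient_map_mem_quasiIso_iff (((EtModW.push Λ f).mapHomologicalComplex _).map i)).2 h1
  haveI h3 := isIso_unitM Λ f J
  haveI h4 : IsIso ((DerivedCategory.Qh ⋙ EtBC.RpushModD Λ f).map (q.map i)) := by
    haveI : IsIso (DerivedCategory.Qh.map (q.map i)) := by
      rw [DerivedCategory.isIso_Qh_map_iff]
      exact (HomotopyCategory.quotient_map_mem_quasiIso_iff i).2 hi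
    exact inferInstanceAs (IsIso ((EtBC.RpushModD Λ f).map (DerivedCategory.Qh.map (q.map i))))
  have nat := (unitM Λ f).naturality (q.map i)
  haveI : IsIso ((unitM Λ f).app (q.obj C) ≫ (DerivedCategory.Qh ⋙ EtBC.RpushModD Λ f).map (q.map i)) := by
    rw [← nat]
    infer_instance
  exact IsIso.of_isIso_comp_right _ ((DerivedCategory.Qh ⋙ EtBC.RpushModD Λ f).map (q.map i))

end Acyclic

/-- The comparison for a composite is the identity on each complex. -/
theorem compIso_inv_app {A B C : Type*} [Category* A] [Category* B] [Category* C] [Preadditive A] [Preadditive B]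
    [Preadditive C] (G : A ⥤ B) (H : B ⥤ C) [G.Additive] [H.Additive] (K : CochainComplex A ℤ) :
    (Functor.mapHomotopyCategoryCompIso (Iso.refl (G ⋙ H)) (ComplexShape.up ℤ)).inv.app
        ((HomotopyCategory.quotient A (ComplexShape.up ℤ)).obj K) =
      (HomotopyCategory.quotient C (ComplexShape.up ℤ)).map
        (𝟙 (((G ⋙ H).mapHomologicalComplex (ComplexShape.up ℤ)).obj K)) := by
  simp [Functor.mapHomotopyCategoryCompIso]
  rfl

section Square

variable {X S X' S' : Scheme.{u}} (f : X ⟶ S) (g : S' ⟶ S) (f' : X' ⟶ S') (g' : X' ⟶ X) (w : g' ≫ f = f' ≫ g)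

theorem baseChange0Mod_natural {F G : EtModW.Mod Λ X} (a : F ⟶ G) :
    (EtModW.pull Λ g).map ((EtModW.push Λ f).map a) ≫ EtSix.baseChange0Mod Λ f g f' g' w G =
      EtSix.baseChange0Mod Λ f g f' g' w F ≫ (EtModW.push Λ f').map ((EtModW.pull Λ g').map a) := by
  simp only [EtSix.baseChange0Mod]
  rw [← Adjunction.homEquiv_naturality_left_symm, ← Adjunction.homEquiv_naturality_right_symm]
  exact congrArg _ ((EtSix.pushToPushPullMod Λ f g f' g' w).naturality a)

/-- The base change morphism of sheaves of modules, as a natural transformation. -/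
def bc0M : EtModW.push Λ f ⋙ EtModW.pull Λ g ⟶ EtModW.pull Λ g' ⋙ EtModW.push Λ f' where
  app F := EtSix.baseChange0Mod Λ f g f' g' w F
  naturality _ _ a := baseChange0Mod_natural f g f' g' w a

theorem isIso_baseChange0Mod (F : EtModW.Mod Λ X)
    (h : IsIso (EtCoh.baseChange0 f g f' g' w ((fgt Λ X).obj F))) :
    IsIso (EtSix.baseChange0Mod Λ f g f' g' w F) := by
  haveI := h
  haveI := isIso_fgtPull Λ g' F
  haveI := isIso_fgtPull Λ g ((EtModW.push Λ f).obj F)
  haveI : IsIso (fgtPull Λ g ((EtModW.push Λ f).obj F) ≫ (fgt Λ S').map (EtSix.baseChange0Mod Λ f g f' g' w F)) := by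
    rw [fgt_baseChange0]
    infer_instance
  haveI : IsIso ((fgt Λ S').map (EtSix.baseChange0Mod Λ f g f' g' w F)) :=
    IsIso.of_isIso_comp_left (fgtPull Λ g ((EtModW.push Λ f).obj F)) _
  exact isIso_of_reflects_iso _ (fgt Λ S')

variable [EtBC.HasRpushMod Λ f'] [EtBC.HasRpushMod Λ f] [EtBC.HasRpushMod Λ g]
  [PreservesFiniteLimits (EtModW.pull Λ g')] [PreservesFiniteLimits (EtModW.pull Λ g)]

/-- The base change morphism on complexes. -/
def thetaM (C : CochainComplex (EtModW.Mod Λ X) ℤ) :=
  DerivedCategory.Qh.map ((HomotopyCategory.quotient _ _).map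
      ((NatTrans.mapHomologicalComplex (bc0M (Λ := Λ) f g f' g' w) (ComplexShape.up ℤ)).app C)) ≫
    (unitM Λ f').app ((HomotopyCategory.quotient _ _).obj
      (((EtModW.pull Λ g').mapHomologicalComplex (ComplexShape.up ℤ)).obj C))

/-- An adjunction for which the base change morphism is computed on complexes. -/
theorem exists_adj_theta : ∃ a : EtBC.pullModD Λ g ⊣ EtBC.RpushModD Λ g,
    ∀ C : CochainComplex (EtModW.Mod Λ X) ℤ,
      (EtBC.pullModD Λ g).map ((unitM Λ f).app ((HomotopyCategory.quotient _ _).obj C)) ≫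
          EtBC.bcMapModD Λ f g f' g' w a (DerivedCategory.Qh.obj ((HomotopyCategory.quotient _ _).obj C)) =
        (EtModW.pull Λ g).mapDerivedCategoryFactorsh.hom.app ((HomotopyCategory.quotient _ _).obj
            (((EtModW.push Λ f).mapHomologicalComplex (ComplexShape.up ℤ)).obj C)) ≫ thetaM f g f' g' w C ≫
          (EtBC.RpushModD Λ f').map ((EtModW.pull Λ g').mapDerivedCategoryFactorsh.inv.app
            ((HomotopyCategory.quotient _ _).obj C)) := by
  obtain ⟨a, ha⟩ := exists_adjMod Λ g
  refine ⟨a, fun C => ?_⟩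
  let K := (HomotopyCategory.quotient (EtModW.Mod Λ X) (ComplexShape.up ℤ)).obj C
  let P := (NatTrans.mapHomologicalComplex (EtSix.pushToPushPullMod Λ f g f' g' w) (ComplexShape.up ℤ)).app C
  let pC := ((EtModW.pull Λ g').mapHomologicalComplex (ComplexShape.up ℤ)).obj C
  have hfac : (unitM Λ f).app K ≫ (EtBC.bcAdjModD Λ f g f' g' w).app (DerivedCategory.Qh.obj K) =
      (EtBC.bcUnitMod Λ f g f' g' w).app K :=
    (EtBC.RpushModD Λ f).rightDerived_fac_app _ _ _ _ K
  let m := (unitM Λ f').app ((HomotopyCategory.quotient _ _).obj pC) ≫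
    (EtBC.RpushModD Λ f').map ((EtModW.pull Λ g').mapDerivedCategoryFactorsh.inv.app K)
  have hu : (EtBC.bcUnitMod Λ f g f' g' w).app K =
      DerivedCategory.Qh.map ((HomotopyCategory.quotient _ (ComplexShape.up ℤ)).map P) ≫
      (unitM Λ g).app ((HomotopyCategory.quotient _ _).obj
        (((EtModW.push Λ f').mapHomologicalComplex (ComplexShape.up ℤ)).obj pC)) ≫
      (EtBC.RpushModD Λ g).map m := by
    simp only [EtBC.bcUnitMod, m, P, pC, K, NatTrans.comp_app, Functor.whiskerRight_app, Functor.whiskerLeft_app,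
      compIso_inv_app, Functor.associator_hom_app, Functor.associator_inv_app]
    erw [compIso_inv_app]
    simp
    erw [CategoryTheory.Functor.map_id, Category.id_comp, Category.id_comp]
    rfl
  refine ((a.homEquiv_naturality_left_symm _ _).symm.trans ((congrArg _ hfac).trans (congrArg _ hu))).trans ?_
  rw [← Category.assoc, Adjunction.homEquiv_naturality_right_symm, Adjunction.homEquiv_counit, Functor.map_comp]
  have hfn := (EtModW.pull Λ g).mapDerivedCategoryFactorsh.hom.naturality
    ((HomotopyCategory.quotient _ (ComplexShape.up ℤ)).map P)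
  have hc := ha ((HomotopyCategory.quotient _ _).obj
    (((EtModW.push Λ f').mapHomologicalComplex (ComplexShape.up ℤ)).obj pC))
  refine ((congrArg (· ≫ m) ((Category.assoc _ _ _).trans (congrArg (_ ≫ ·) hc))).trans ?_)
  refine ((congrArg (· ≫ m) ((Category.assoc _ _ _).symm.trans ((congrArg (· ≫ _) hfn).trans
    (Category.assoc _ _ _)))).trans ?_)
  simp only [thetaM, m, Category.assoc]
  refine congrArg (_ ≫ ·) ?_
  refine (Category.assoc _ _ _).symm.trans (congrArg (· ≫ _) ?_)
  refine (DerivedCategory.Qh.map_comp (((EtModW.pull Λ g).mapHomotopyCategory (ComplexShape.up ℤ)).map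
    ((HomotopyCategory.quotient (EtModW.Mod Λ S) (ComplexShape.up ℤ)).map P)) _).symm.trans
    (congrArg DerivedCategory.Qh.map ?_)
  refine ((HomotopyCategory.quotient _ _).map_comp
    (((EtModW.pull Λ g).mapHomologicalComplex (ComplexShape.up ℤ)).map P) _).symm.trans ?_
  refine congrArg (HomotopyCategory.quotient _ _).map (HomologicalComplex.hom_ext _ _ fun i => ?_)
  exact ((EtSix.pullPushModAdj Λ g).homEquiv_counit _ _ _).symm

/-- The base change morphism of unbounded complexes, as a natural transformation. -/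
def bcNat (a : EtBC.pullModD Λ g ⊣ EtBC.RpushModD Λ g) :
    EtBC.RpushModD Λ f ⋙ EtBC.pullModD Λ g ⟶ EtBC.pullModD Λ g' ⋙ EtBC.RpushModD Λ f' where
  app K := EtBC.bcMapModD Λ f g f' g' w a K
  naturality K L φ := by
    show (EtBC.pullModD Λ g).map ((EtBC.RpushModD Λ f).map φ) ≫ EtBC.bcMapModD Λ f g f' g' w a L =
      EtBC.bcMapModD Λ f g f' g' w a K ≫ (EtBC.RpushModD Λ f').map ((EtBC.pullModD Λ g').map φ)
    simp only [EtBC.bcMapModD]
    rw [← Adjunction.homEquiv_naturality_left_symm, ← Adjunction.homEquiv_naturality_right_symm]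
    exact congrArg _ ((EtBC.bcAdjModD Λ f g f' g' w).naturality φ)

theorem isIso_bcMapModD_congr (a a' : EtBC.pullModD Λ g ⊣ EtBC.RpushModD Λ g) {K L : EtModD.D Λ X} (e : K ≅ L) :
    IsIso (EtBC.bcMapModD Λ f g f' g' w a K) ↔ IsIso (EtBC.bcMapModD Λ f g f' g' w a' L) :=
  (BCDLib.isIso_transpose_iff a a' _).trans (NatTrans.isIso_app_iff_of_iso (bcNat f g f' g' w a') e)

variable {n : ℕ} (hΛ : (n : Λ) = 0)
  (hbc : ∀ F : EtCoh.Ab X, EtCoh.KilledBy n F → ∀ q : ℕ, IsIso (EtBC.bcQ f g f' g' w q F))

include hΛ hbc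

/-- **Base change for bounded below complexes.** -/
theorem isIso_bcMapModD_of_isGE (a : EtBC.pullModD Λ g ⊣ EtBC.RpushModD Λ g) (K : EtModD.D Λ X) (m : ℤ)
    (hK : K.IsGE m) : IsIso (EtBC.bcMapModD Λ f g f' g' w a K) := by
  haveI := hK
  haveI : IsGrothendieckAbelian.{u + 1} (EtModW.Mod Λ X) := inferInstance
  obtain ⟨L₀, hL, ⟨eL⟩⟩ := DerivedCategory.exists_iso_Q_obj_of_isGE K m
  haveI := hL
  obtain ⟨C, i, hi, hJ, hCm⟩ := CochainComplex.Plus.modelCategoryQuillen.exists_quasiIso_injective L₀ m
  haveI := hi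
  haveI := hCm
  haveI : ∀ j, Injective (C.X j) := hJ
  let eC : DerivedCategory.Qh.obj ((HomotopyCategory.quotient _ _).obj C) ≅ K :=
    (DerivedCategory.quotientCompQhIso _).app C ≪≫ (asIso (DerivedCategory.Q.map i)).symm ≪≫ eL.symm
  obtain ⟨a', ha'⟩ := exists_adj_theta (Λ := Λ) f g f' g' w
  rw [isIso_bcMapModD_congr f g f' g' w a a' eC.symm]
  haveI := isIso_unitM_of_acyclic f C m fun j => PBCLib.isAcyclicFor_forget_injective f Λ (C.X j)
  let pC := ((EtModW.pull Λ g').mapHomologicalComplex (ComplexShape.up ℤ)).obj C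
  haveI : CochainComplex.IsStrictlyGE pC m := (CochainComplex.isStrictlyGE_iff _ m).2 fun j hj =>
    (EtModW.pull Λ g').map_isZero (CochainComplex.isZero_of_isStrictlyGE C m j hj)
  haveI hu' := isIso_unitM_of_acyclic f' pC m fun j p => by
    haveI := hbc _ (killedBy_fgt hΛ (C.X j)) (p + 1)
    haveI : (EtCoh.pull g).Additive := (EtCoh.pullPushAdj g).left_adjoint_additive
    haveI := isIso_fgtPull Λ g' (C.X j)
    exact (((EtCoh.pull g).map_isZero (PBCLib.isAcyclicFor_forget_injective f Λ (C.X j) p)).of_iso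
      (asIso (EtBC.bcQ f g f' g' w (p + 1) ((fgt Λ X).obj (C.X j)))).symm).of_iso
      ((EtCoh.Rpush f' (p + 1)).mapIso (asIso (fgtPull Λ g' (C.X j))).symm)
  let ψ := (NatTrans.mapHomologicalComplex (bc0M (Λ := Λ) f g f' g' w) (ComplexShape.up ℤ)).app C
  haveI : ∀ j, IsIso (ψ.f j) := fun j => isIso_baseChange0Mod f g f' g' w (C.X j)
    (CompBCLib.isIso_baseChange0 g f g' f' w _ (hbc _ (killedBy_fgt hΛ (C.X j)) 0))
  haveI : IsIso ψ := HomologicalComplex.Hom.isIso_of_components ψ
  haveI : IsIso (thetaM f g f' g' w C) := IsIso.comp_isIso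
  rw [← isIso_comp_left_iff ((EtBC.pullModD Λ g).map ((unitM Λ f).app ((HomotopyCategory.quotient _ _).obj C))),
    ha' C]
  infer_instance

/-- **Base change for all complexes.** -/
theorem isIso_bcMapModD
    [∀ (ι : Type (u + 1)), PreservesColimitsOfShape (Discrete ι) (EtBC.RpushModD Λ f)]
    [∀ (ι : Type (u + 1)), PreservesColimitsOfShape (Discrete ι) (EtBC.RpushModD Λ f')]
    (a : EtBC.pullModD Λ g ⊣ EtBC.RpushModD Λ g) (K : EtModD.D Λ X) :
    IsIso (EtBC.bcMapModD Λ f g f' g' w a K) := by
  haveI := hasRpushMod Λ g'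
  obtain ⟨a', -⟩ := exists_adjMod Λ g'
  haveI : PreservesColimitsOfShape (Discrete (ULift.{u + 1} ℕ)) (EtBC.pullModD Λ g') :=
    a'.leftAdjoint_preservesColimits.preservesColimitsOfShape
  haveI : PreservesColimitsOfShape (Discrete (ULift.{u + 1} ℕ)) (EtBC.pullModD Λ g) :=
    a.leftAdjoint_preservesColimits.preservesColimitsOfShape
  haveI : IsGrothendieckAbelian.{u + 1} (EtModW.Mod Λ X) := inferInstance
  haveI : HasColimits (EtModW.Mod Λ X) := IsGrothendieckAbelian.hasColimits _
  exact isIso_of_bounded_below.{u + 1} (hresMod Λ X) (bcNat f g f' g' w a)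
    (fun L m hL => isIso_bcMapModD_of_isGE f g f' g' w hΛ hbc a L m hL) K

end Square

end Groth.Agent.UnbddLib
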