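import Groth.Agent.UnbddLib.ModBC

/-!
# Full faithfulness of inverse images on unbounded derived categories

If `F → g_* g⁻¹ F` is an isomorphism and `R^q g_* g⁻¹ F = 0` for `q > 0` for all abelian sheaves killed by
`n`, then the unit `K → Rg_* g^* K` is an isomorphism for all complexes of modules, provided `Rg_*`
preserves direct sums.
-/

set_option autoImplicit false
set_option linter.style.haveILetI false
set_option linter.unusedSectionVars false
set_option backward.isDefEq.respectTransparency false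
set_option backward.isDefEq.respectTransparency.types false
set_option maxHeartbeats 1000000
set_option synthInstance.maxHeartbeats 400000

universe u

open CategoryTheory CategoryTheory.Limits AlgebraicGeometry Opposite Groth.Agent.KInj

attribute [local instance] HasDerivedCategory.standard

noncomputable section

namespace Groth.Agent.UnbddLib

attribute [local instance] Groth.Agent.S0101.result

open PBCLib (fgt fgtPull isIso_fgtPull homEquiv_fgtPull)

variable {Λ : Type (u + 1)} [CommRing Λ] {X S : Scheme.{u}} (g : X ⟶ S)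

theorem isIso_unitMod (M : EtModW.Mod Λ S) (h : IsIso ((EtCoh.pullPushAdj g).unit.app ((fgt Λ S).obj M))) :
    IsIso ((EtSix.pullPushModAdj Λ g).unit.app M) := by
  haveI := h
  haveI := isIso_fgtPull Λ g M
  have e : (fgt Λ S).map ((EtSix.pullPushModAdj Λ g).unit.app M) =
      (EtCoh.pullPushAdj g).unit.app ((fgt Λ S).obj M) ≫ (EtCoh.push g).map (fgtPull Λ g M) :=
    (homEquiv_fgtPull Λ g M).symm.trans ((EtCoh.pullPushAdj g).homEquiv_unit _ _ _)
  haveI : IsIso ((fgt Λ S).map ((EtSix.pullPushModAdj Λ g).unit.app M)) := by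
    rw [e]
    infer_instance
  exact isIso_of_reflects_iso _ (fgt Λ S)

variable [EtBC.HasRpushMod Λ g] [PreservesFiniteLimits (EtModW.pull Λ g)]

/-- The derived unit computed on complexes. -/
theorem unit_adjMod_eq (a : EtBC.pullModD Λ g ⊣ EtBC.RpushModD Λ g)
    (ha : ∀ K, (EtBC.pullModD Λ g).map ((unitM Λ g).app K) ≫ a.counit.app (DerivedCategory.Qh.obj K) =
      (EtModW.pull Λ g).mapDerivedCategoryFactorsh.hom.app
          (((EtModW.push Λ g).mapHomotopyCategory (ComplexShape.up ℤ)).obj K) ≫
        DerivedCategory.Qh.map ((homotopyAdjunction (EtSix.pullPushModAdj Λ g)).counit.app K))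
    (Y : HomotopyCategory (EtModW.Mod Λ S) (ComplexShape.up ℤ)) :
    a.unit.app (DerivedCategory.Qh.obj Y) =
      DerivedCategory.Qh.map ((homotopyAdjunction (EtSix.pullPushModAdj Λ g)).unit.app Y) ≫
        (unitM Λ g).app (((EtModW.pull Λ g).mapHomotopyCategory (ComplexShape.up ℤ)).obj Y) ≫
          (EtBC.RpushModD Λ g).map ((EtModW.pull Λ g).mapDerivedCategoryFactorsh.inv.app Y) := by
  let P := (EtModW.pull Λ g).mapHomotopyCategory (ComplexShape.up ℤ)
  let lf := (EtModW.pull Λ g).mapDerivedCategoryFactorsh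
  let η := (homotopyAdjunction (EtSix.pullPushModAdj Λ g)).unit.app Y
  apply (a.homEquiv _ _).symm.injective
  refine ((congrArg _ (a.homEquiv_id _).symm).trans ((a.homEquiv _ _).symm_apply_apply _)).trans ?_
  rw [Adjunction.homEquiv_counit, Functor.map_comp, Functor.map_comp]
  have h1 := a.counit.naturality (lf.inv.app Y)
  have h2 := ha (P.obj Y)
  have h3 := lf.hom.naturality η
  have h4 : P.map η ≫ (homotopyAdjunction (EtSix.pullPushModAdj Λ g)).counit.app (P.obj Y) = 𝟙 (P.obj Y) :=
    (homotopyAdjunction (EtSix.pullPushModAdj Λ g)).left_triangle_components Y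
  refine Eq.symm ?_
  refine (Category.assoc _ _ _).trans ((congrArg (_ ≫ ·) ((Category.assoc _ _ _).trans
    ((congrArg (_ ≫ ·) h1).trans ((Category.assoc _ _ _).symm.trans (congrArg (· ≫ lf.inv.app Y) h2))))).trans ?_)
  refine (congrArg (_ ≫ ·) (Category.assoc _ _ _)).trans ((Category.assoc _ _ _).symm.trans
    ((congrArg (· ≫ _) h3).trans ((Category.assoc _ _ _).trans ?_)))
  refine (congrArg (lf.hom.app Y ≫ ·) ((Category.assoc _ _ _).symm.trans
    ((congrArg (· ≫ lf.inv.app Y) ((DerivedCategory.Qh.map_comp (P.map η) _).symm.trans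
      ((congrArg DerivedCategory.Qh.map h4).trans (DerivedCategory.Qh.map_id _)))).trans (Category.id_comp _)))).trans ?_
  exact lf.hom_inv_id_app Y

variable {n : ℕ} (hΛ : (n : Λ) = 0)
  (hu : ∀ F : EtCoh.Ab S, EtCoh.KilledBy n F → IsIso ((EtCoh.pullPushAdj g).unit.app F))
  (hR : ∀ F : EtCoh.Ab S, EtCoh.KilledBy n F → ∀ q : ℕ,
    IsZero ((EtCoh.Rpush g (q + 1)).obj ((EtCoh.pull g).obj F)))

include hΛ hu hR

/-- **Full faithfulness of `g^*`.** -/
theorem full_faithful_pullModD
    [∀ (ι : Type (u + 1)), PreservesColimitsOfShape (Discrete ι) (EtBC.RpushModD Λ g)] :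
    (EtBC.pullModD Λ g).Full ∧ (EtBC.pullModD Λ g).Faithful := by
  obtain ⟨a, ha⟩ := exists_adjMod Λ g
  haveI : IsGrothendieckAbelian.{u + 1} (EtModW.Mod Λ S) := inferInstance
  haveI : HasColimits (EtModW.Mod Λ S) := IsGrothendieckAbelian.hasColimits _
  haveI : PreservesColimitsOfShape (Discrete (ULift.{u + 1} ℕ)) (EtBC.pullModD Λ g) :=
    a.leftAdjoint_preservesColimits.preservesColimitsOfShape
  have hbb : ∀ (K : EtModD.D Λ S) (m : ℤ), K.IsGE m → IsIso (a.unit.app K) := fun K m hK => by
    haveI := hK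
    obtain ⟨L, hL, ⟨eL⟩⟩ := DerivedCategory.exists_iso_Q_obj_of_isGE K m
    haveI := hL
    let eC : DerivedCategory.Qh.obj ((HomotopyCategory.quotient _ _).obj L) ≅ K :=
      (DerivedCategory.quotientCompQhIso _).app L ≪≫ eL.symm
    suffices h : IsIso (a.unit.app (DerivedCategory.Qh.obj ((HomotopyCategory.quotient _ _).obj L))) from
      (NatTrans.isIso_app_iff_of_iso a.unit eC).1 h
    rw [unit_adjMod_eq g a ha]
    let pL := ((EtModW.pull Λ g).mapHomologicalComplex (ComplexShape.up ℤ)).obj L
    haveI : CochainComplex.IsStrictlyGE pL m := (CochainComplex.isStrictlyGE_iff _ m).2 fun j hj =>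
      (EtModW.pull Λ g).map_isZero (CochainComplex.isZero_of_isStrictlyGE L m j hj)
    haveI : IsIso ((unitM Λ g).app (((EtModW.pull Λ g).mapHomotopyCategory (ComplexShape.up ℤ)).obj
        ((HomotopyCategory.quotient _ _).obj L))) :=
      isIso_unitM_of_acyclic g pL m fun j p => by
        haveI := isIso_fgtPull Λ g (L.X j)
        exact (hR _ (killedBy_fgt hΛ (L.X j)) p).of_iso
          ((EtCoh.Rpush g (p + 1)).mapIso (asIso (fgtPull Λ g (L.X j))).symm)
    let η : L ⟶ ((EtModW.push Λ g).mapHomologicalComplex (ComplexShape.up ℤ)).obj pL :=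
      { f := fun i => (EtSix.pullPushModAdj Λ g).unit.app (L.X i)
        comm' := fun i j _ => ((EtSix.pullPushModAdj Λ g).unit.naturality (L.d i j)).symm }
    haveI : ∀ i, IsIso (η.f i) := fun i => isIso_unitMod g (L.X i) (hu _ (killedBy_fgt hΛ (L.X i)))
    haveI : IsIso η := HomologicalComplex.Hom.isIso_of_components η
    haveI : IsIso ((homotopyAdjunction (EtSix.pullPushModAdj Λ g)).unit.app ((HomotopyCategory.quotient _ _).obj L)) :=
      inferInstanceAs (IsIso ((HomotopyCategory.quotient _ (ComplexShape.up ℤ)).map η))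
    infer_instance
  haveI : ∀ K, IsIso (a.unit.app K) := fun K =>
    isIso_of_bounded_below.{u + 1} (hresMod Λ S) a.unit hbb K
  haveI : IsIso a.unit := NatIso.isIso_of_isIso_app _
  exact ⟨a.fullyFaithfulLOfIsIsoUnit.full, a.fullyFaithfulLOfIsIsoUnit.faithful⟩

end Groth.Agent.UnbddLib
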