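import Groth.Agent.UnbddLib.ProperCoprod
import Groth.Agent.BrownRep.Grothendieck

/-!
# Triangulated functors preserving direct sums between derived categories have right adjoints
-/

set_option autoImplicit false
set_option linter.style.haveILetI false
set_option linter.unusedSectionVars false
set_option backward.isDefEq.respectTransparency false
set_option backward.isDefEq.respectTransparency.types false
set_option maxHeartbeats 1000000
set_option synthInstance.maxHeartbeats 400000

universe w w' v u u'

open CategoryTheory CategoryTheory.Limits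

noncomputable section

namespace Groth.Agent.UnbddLib

/-- Two constructions of the derived category are equivalent by the functor induced by the identity. -/
theorem isEquivalence_mapDerivedCategory_id {A : Type u} [Category.{v} A] [Abelian A]
    (i₁ : HasDerivedCategory.{w} A) (i₂ : HasDerivedCategory.{w'} A) :
    (@Functor.mapDerivedCategory A _ _ i₁ A _ _ i₂ (𝟭 A) _ _ _).IsEquivalence := by
  let Q₁ := @DerivedCategory.Q A _ _ i₁
  let Q₂ := @DerivedCategory.Q A _ _ i₂
  let W := HomologicalComplex.quasiIso A (ComplexShape.up ℤ)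
  let G := @Functor.mapDerivedCategory A _ _ i₁ A _ _ i₂ (𝟭 A) _ _ _
  let U := Localization.uniq Q₁ Q₂ W
  let F₁ : CochainComplex A ℤ ⥤ _ := (𝟭 A).mapHomologicalComplex (ComplexShape.up ℤ) ⋙ Q₂
  haveI : Localization.Lifting Q₁ W F₁ G := ⟨@Functor.mapDerivedCategoryFactors A _ _ i₁ A _ _ i₂ (𝟭 A) _ _ _⟩
  haveI : Localization.Lifting Q₁ W Q₂ U.functor := ⟨Localization.compUniqFunctor Q₁ Q₂ W⟩
  exact Functor.isEquivalence_of_iso (Localization.liftNatIso Q₁ W Q₂ F₁ U.functor G
    (Functor.isoWhiskerRight (Functor.mapHomologicalComplexIdIso A (ComplexShape.up ℤ)).symm Q₂ ≪≫ Iso.refl _))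

/-- Brown representability, for derived categories with small morphism types. -/
theorem isLeftAdjoint_small {A : Type u} [Category.{v} A] [Abelian A] [IsGrothendieckAbelian.{v} A]
    [HasDerivedCategory.{v} A] {B : Type u'} [Category.{v} B] [Abelian B] [HasDerivedCategory.{v} B]
    (F : DerivedCategory A ⥤ DerivedCategory B) [F.CommShift ℤ] [F.IsTriangulated]
    [∀ κ : Type v, PreservesColimitsOfShape (Discrete κ) F] : F.IsLeftAdjoint := by
  haveI : HasCoproducts.{v} (DerivedCategory A) := BrownRep.hasCoproducts_derivedCategory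
  haveI := hasColimitsOfShape_of_equivalence (C := DerivedCategory A)
    (Discrete.equivalence (Equiv.ulift.{v} (α := ℕ)))
  exact BrownRep.isLeftAdjoint_of_representable (fun K => BrownRep.isRepresentable_derivedCategory K) F

attribute [local instance] HasDerivedCategory.standard

/-- **Brown representability for derived categories of Grothendieck abelian categories.** -/
theorem isLeftAdjoint_of_preservesCoproducts {A : Type u} [Category.{v} A] [Abelian A]
    [IsGrothendieckAbelian.{v} A] {B : Type u'} [Category.{v} B] [Abelian B] [IsGrothendieckAbelian.{v} B]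
    (F : DerivedCategory A ⥤ DerivedCategory B) [F.CommShift ℤ] [F.IsTriangulated]
    [∀ κ : Type v, PreservesColimitsOfShape (Discrete κ) F] : F.IsLeftAdjoint := by
  let sA := BrownRep.smallDerivedCategory A
  let sB := BrownRep.smallDerivedCategory B
  let sA' := HasDerivedCategory.standard A
  let sB' := HasDerivedCategory.standard B
  let G := @Functor.mapDerivedCategory A _ _ sA A _ _ sA' (𝟭 A) _ _ _
  let G' := @Functor.mapDerivedCategory A _ _ sA' A _ _ sA (𝟭 A) _ _ _
  let H := @Functor.mapDerivedCategory B _ _ sB' B _ _ sB (𝟭 B) _ _ _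
  haveI : G.IsEquivalence := isEquivalence_mapDerivedCategory_id sA sA'
  haveI : H.IsEquivalence := isEquivalence_mapDerivedCategory_id sB' sB
  let F' := G ⋙ F ⋙ H
  haveI : F'.IsLeftAdjoint := @isLeftAdjoint_small A _ _ _ sA B _ _ sB F' _ _ _
  have e : F ≅ G.inv ⋙ F' ⋙ H.inv :=
    (Functor.leftUnitor F).symm ≪≫ Functor.isoWhiskerRight G.asEquivalence.counitIso.symm F ≪≫
      Functor.isoWhiskerLeft (G.inv ⋙ G) ((Functor.rightUnitor F).symm ≪≫
        Functor.isoWhiskerLeft F H.asEquivalence.unitIso) ≪≫ Iso.refl _
  exact Functor.isLeftAdjoint_of_iso e.symm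

end Groth.Agent.UnbddLib
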