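import Groth.Agent.UnbddLib.Telescope
import Groth.Agent.SpSeqLib.Acyclic
import Mathlib.Algebra.Category.Grp.AB
import Mathlib.Algebra.Homology.DerivedCategory.DerivabilityStructureInjectives

/-!
# Unbounded complexes of acyclic objects compute derived functors preserving countable direct sums
-/

set_option autoImplicit false
set_option linter.style.haveILetI false
set_option linter.unusedSectionVars false
set_option backward.isDefEq.respectTransparency false
set_option backward.isDefEq.respectTransparency.types false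
set_option maxHeartbeats 1000000

universe w w' v u

open CategoryTheory CategoryTheory.Limits CategoryTheory.Pretriangulated

noncomputable section

namespace Groth.Agent.UnbddLib

open Groth.Agent.SpSeqLib

theorem acyclic_iff_isZero_Q {C : Type u} [Category.{v} C] [Abelian C] [HasDerivedCategory.{w} C]
    (K : CochainComplex C ℤ) : K.Acyclic ↔ IsZero (DerivedCategory.Q.obj K) := by
  constructor
  · intro h
    haveI : DerivedCategory.TStructure.t.IsLE (DerivedCategory.Q.obj K) 0 :=
      (DerivedCategory.isLE_Q_obj_iff _ _).2 ((CochainComplex.isLE_iff _ _).2 fun i _ => h i)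
    haveI : DerivedCategory.TStructure.t.IsGE (DerivedCategory.Q.obj K) 1 :=
      (DerivedCategory.isGE_Q_obj_iff _ _).2 ((CochainComplex.isGE_iff _ _).2 fun i _ => h i)
    exact DerivedCategory.TStructure.t.isZero _ 0 1 (by omega)
  · intro h i
    rw [HomologicalComplex.exactAt_iff_isZero_homology]
    exact ((DerivedCategory.homologyFunctor C i).map_isZero h).of_iso
      ((DerivedCategory.homologyFunctorFactors C i).app K).symm

variable {A : Type u} [Category.{v} A] [Abelian A] [IsGrothendieckAbelian.{v} A] [HasDerivedCategory.{w} A]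
  [HasDerivedCategory.{w'} AddCommGrpCat.{v}]
  (F : A ⥤ AddCommGrpCat.{v}) [F.Additive] [PreservesFiniteLimits F]
  [(F.mapHomotopyCategory (ComplexShape.up ℤ) ⋙ DerivedCategory.Qh).HasRightDerivedFunctor
    (HomotopyCategory.quasiIso A (ComplexShape.up ℤ))]

/-- The total right derived functor. -/
abbrev RFt : DerivedCategory A ⥤ DerivedCategory AddCommGrpCat.{v} :=
  (F.mapHomotopyCategory (ComplexShape.up ℤ) ⋙ DerivedCategory.Qh).totalRightDerived DerivedCategory.Qh
    (HomotopyCategory.quasiIso A (ComplexShape.up ℤ))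

/-- Its unit. -/
abbrev ηt : F.mapHomotopyCategory (ComplexShape.up ℤ) ⋙ DerivedCategory.Qh ⟶ DerivedCategory.Qh ⋙ RFt F :=
  (F.mapHomotopyCategory (ComplexShape.up ℤ) ⋙ DerivedCategory.Qh).totalRightDerivedUnit DerivedCategory.Qh
    (HomotopyCategory.quasiIso A (ComplexShape.up ℤ))

/-- The unit on complexes. -/
def τt : (F.mapHomologicalComplex (ComplexShape.up ℤ) ⋙ HomotopyCategory.quotient _ (ComplexShape.up ℤ) ⋙
      DerivedCategory.Qh) ⟶
    (HomotopyCategory.quotient A (ComplexShape.up ℤ) ⋙ DerivedCategory.Qh) ⋙ RFt F where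
  app K := (ηt F).app ((HomotopyCategory.quotient A (ComplexShape.up ℤ)).obj K)
  naturality _ _ f := (ηt F).naturality ((HomotopyCategory.quotient A (ComplexShape.up ℤ)).map f)

theorem isIso_quotientQh_map_iff {C : Type u} [Category.{v} C] [Abelian C] [HasDerivedCategory.{w} C]
    {K L : CochainComplex C ℤ} (f : K ⟶ L) :
    IsIso ((HomotopyCategory.quotient C (ComplexShape.up ℤ) ⋙ DerivedCategory.Qh).map f) ↔ QuasiIso f :=
  (NatIso.isIso_map_iff (DerivedCategory.quotientCompQhIso C) f).trans (DerivedCategory.isIso_Q_map_iff_quasiIso C f)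

/-- The unit is an isomorphism at `K` if `F` maps a quasi-isomorphism to a good complex to one. -/
theorem isIso_τt_of_quasiIso {K L : CochainComplex A ℤ} (f : K ⟶ L) [QuasiIso f]
    (hf : QuasiIso ((F.mapHomologicalComplex (ComplexShape.up ℤ)).map f)) (hL : IsIso ((τt F).app L)) :
    IsIso ((τt F).app K) := by
  haveI := (isIso_quotientQh_map_iff f).2 ‹_›
  haveI : IsIso ((F.mapHomologicalComplex (ComplexShape.up ℤ) ⋙ HomotopyCategory.quotient _ (ComplexShape.up ℤ) ⋙
      DerivedCategory.Qh).map f) := (isIso_quotientQh_map_iff _).2 hf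
  haveI := hL
  haveI : IsIso (((HomotopyCategory.quotient A (ComplexShape.up ℤ) ⋙ DerivedCategory.Qh) ⋙ RFt F).map f) :=
    Functor.map_isIso (RFt F) _
  haveI : IsIso ((τt F).app K ≫ ((HomotopyCategory.quotient A (ComplexShape.up ℤ) ⋙ DerivedCategory.Qh) ⋙ RFt F).map f) := by
    rw [← (τt F).naturality f]; infer_instance
  exact IsIso.of_isIso_comp_right _ (((HomotopyCategory.quotient A (ComplexShape.up ℤ) ⋙ DerivedCategory.Qh) ⋙ RFt F).map f)

theorem isIso_τt_of_isKInjective (I : CochainComplex A ℤ) [I.IsKInjective] : IsIso ((τt F).app I) :=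
  KInj.isIso_app_of_isKInjective (KInj.hres_of_isGrothendieckAbelian A) _ (RFt F) (ηt F) I

theorem isIso_τt_of_bounded (K : CochainComplex A ℤ) (n : ℤ) [K.IsStrictlyGE n]
    (hK : ∀ m, IsAcyclicFor F (K.X m)) : IsIso ((τt F).app K) := by
  obtain ⟨I, s, hs, hJ, hIn⟩ := CochainComplex.Plus.modelCategoryQuillen.exists_quasiIso_injective K n
  haveI := hs
  haveI := hIn
  haveI : ∀ m, Injective (I.X m) := hJ
  haveI := CochainComplex.isKInjective_of_injective I n
  exact isIso_τt_of_quasiIso F s (quasiIso_map F s n hK fun m => isAcyclicFor_of_injective F _)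
    (isIso_τt_of_isKInjective F I)

theorem isAcyclicFor_of_iso {X Y : A} (e : X ≅ Y) (h : IsAcyclicFor F X) : IsAcyclicFor F Y :=
  fun p => (h p).of_iso ((F.rightDerived (p + 1)).mapIso e.symm)

theorem isAcyclicFor_cut (K : CochainComplex A ℤ) [HasColimitsOfSize.{0, 0} A] (hK : ∀ m, IsAcyclicFor F (K.X m))
    (n i : ℤ) : IsAcyclicFor F ((cut K n).X i) := by
  by_cases h : n ≤ i
  · refine isAcyclicFor_of_iso F (X := K.X i) ?_ (hK i)
    exact { hom := cutι K n i h, inv := cutDesc K fun _ => 𝟙 _, hom_inv_id := cutι_desc K _ h,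
            inv_hom_id := cutX_ext K fun hm => ((Category.assoc _ _ _).symm.trans ((congrArg (· ≫ _) (cutι_desc K _ hm)).trans (Category.id_comp _))).trans (Category.comp_id _).symm }
  · exact isAcyclicFor_of_isZero F (isZero_cutX K (not_le.1 h))

variable [PreservesColimitsOfShape (Discrete (ULift.{v} ℕ)) F]
  [PreservesColimitsOfShape (Discrete (ULift.{v} ℕ)) (RFt F)]

/-- `F` maps an exact complex of acyclic objects to an exact complex. -/
theorem acyclic_map_of_preservesCoproducts (C : CochainComplex A ℤ) (hC : C.Acyclic)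
    (hac : ∀ m, IsAcyclicFor F (C.X m)) : ((F.mapHomologicalComplex (ComplexShape.up ℤ)).obj C).Acyclic := by
  haveI : HasColimitsOfSize.{v, v} A := IsGrothendieckAbelian.hasColimits A
  haveI : HasColimitsOfSize.{0, 0} A := hasColimitsOfSizeShrink.{0, 0} A
  haveI := RpushSumLib.preservesCoproducts_quotientQh (A := A) (ULift.{v} ℕ) (KInj.hres_of_isGrothendieckAbelian A)
  haveI := RpushSumLib.preservesCoproducts_quotientQh (A := AddCommGrpCat.{v}) (ULift.{v} ℕ)
    (KInj.hres_of_isGrothendieckAbelian AddCommGrpCat.{v})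
  let FC := F.mapHomologicalComplex (ComplexShape.up ℤ)
  let G₁ := FC ⋙ HomotopyCategory.quotient _ (ComplexShape.up ℤ) ⋙ DerivedCategory.Qh
  let G₂ := (HomotopyCategory.quotient A (ComplexShape.up ℤ) ⋙ DerivedCategory.Qh) ⋙ RFt F
  haveI : PreservesColimitsOfShape (Discrete (ULift.{v} ℕ)) FC :=
    ⟨fun {_} => ⟨fun {_} hc => ⟨HomologicalComplex.isColimitOfEval _ _ fun i =>
      (isColimitOfPreserves (HomologicalComplex.eval A (ComplexShape.up ℤ) i ⋙ F) hc :)⟩⟩⟩
  have hsum : IsIso ((τt F).app (tsum.{v} C)) :=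
    isIso_app_of_cofan (τt F) (coproductIsCoproduct (cuts.{v} C)) fun n =>
      isIso_τt_of_bounded F (cuts.{v} C n) (-(n.down : ℤ)) fun i => isAcyclicFor_cut F C hac _ i
  have hT := DerivedCategory.triangleOfSES_distinguished (tel_shortExact.{v} C)
  haveI hA : QuasiIso (telA.{v} C) := by
    rw [← DerivedCategory.isIso_Q_map_iff_quasiIso]
    exact (Triangle.isZero₃_iff_isIso₁ _ hT).1 ((acyclic_iff_isZero_Q C).1 hC)
  have hS : ((tel.{v} C).map FC).ShortExact :=
    HomologicalComplex.shortExact_of_degreewise_shortExact _ fun i => ((telSplitting C i).map F).shortExact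
  haveI hFA : QuasiIso (FC.map (telA.{v} C)) := by
    rw [← isIso_quotientQh_map_iff]
    haveI := (isIso_quotientQh_map_iff (telA.{v} C)).2 hA
    haveI := hsum
    haveI : IsIso (G₂.map (telA.{v} C)) := Functor.map_isIso (RFt F) _
    haveI : IsIso (G₁.map (telA.{v} C) ≫ (τt F).app (tsum.{v} C)) := by
      rw [(τt F).naturality]; infer_instance
    exact IsIso.of_isIso_comp_right (G₁.map (telA.{v} C)) ((τt F).app (tsum.{v} C))
  exact (acyclic_iff_isZero_Q _).2 ((Triangle.isZero₃_iff_isIso₁ _ (DerivedCategory.triangleOfSES_distinguished hS)).2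
    ((DerivedCategory.isIso_Q_map_iff_quasiIso _ _).2 hFA))

/-- **Complexes of acyclic objects compute the unbounded derived functor.** -/
theorem isIso_ηt_of_acyclic (K : CochainComplex A ℤ) (hK : ∀ m, IsAcyclicFor F (K.X m)) :
    IsIso ((ηt F).app ((HomotopyCategory.quotient A (ComplexShape.up ℤ)).obj K)) := by
  obtain ⟨I, f, hI, hf, -, hinj⟩ := KInj.exists_isKInjective_resolution K
  haveI := hI
  haveI := hf
  haveI : ∀ m, Injective (I.X m) := hinj
  refine isIso_τt_of_quasiIso F f ?_ (isIso_τt_of_isKInjective F I)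
  rw [quasiIso_iff_acyclic_mappingCone]
  refine fun n => HomologicalComplex.ExactAt.of_iso ?_ (CochainComplex.mappingCone.mapHomologicalComplexIso f F)
  refine acyclic_map_of_preservesCoproducts F _ ((quasiIso_iff_acyclic_mappingCone f).1 hf) (fun m => ?_) n
  exact isAcyclicFor_of_biprod F ((CochainComplex.mappingCone.inl f).v (m + 1) m (by lia))
    ((CochainComplex.mappingCone.inr f).f m) ((CochainComplex.mappingCone.fst f).1.v m (m + 1) rfl)
    ((CochainComplex.mappingCone.snd f).v m m (add_zero m))
    (CochainComplex.mappingCone.id_X f m (m + 1) rfl) (hK (m + 1)) (isAcyclicFor_of_injective F _)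

end Groth.Agent.UnbddLib
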