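import Groth.Agent.UnbddLib.Adjoint
import Groth.Agent.UnbddLib.ExtZero
import Groth.Agent.RDPlus.Basic
import Mathlib.CategoryTheory.Adjunction.Restrict

/-!
# The exceptional inverse image on bounded below derived categories

`Rf_!` on `D⁺` is the restriction of a functor on unbounded derived categories which preserves direct
sums and has bounded cohomological amplitude, so its right adjoint preserves `D⁺`.
-/

set_option autoImplicit false
set_option linter.style.haveILetI false
set_option linter.unusedSectionVars false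
set_option backward.isDefEq.respectTransparency false
set_option backward.isDefEq.respectTransparency.types false
set_option maxHeartbeats 1000000
set_option synthInstance.maxHeartbeats 400000

universe w v v' u u'

open CategoryTheory CategoryTheory.Limits AlgebraicGeometry Groth.Agent.KInj

attribute [local instance] HasDerivedCategory.standard

noncomputable section

namespace Groth.Agent.UnbddLib

section Plus

variable {C : Type u} [Category.{v} C] [Abelian C] [EnoughInjectives C]
  {D : Type u'} [Category.{v'} D] [Abelian D] (E : C ⥤ D) [E.Additive]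

/-- The derived functor on `D⁺` is the restriction of any functor on `D` computed on K-injective complexes. -/
theorem nonempty_plus_iso (RE : DerivedCategory C ⥤ DerivedCategory D)
    (α : E.mapHomotopyCategory (ComplexShape.up ℤ) ⋙ DerivedCategory.Qh ⟶ DerivedCategory.Qh ⋙ RE)
    (hα : ∀ (I : CochainComplex C ℤ) (n : ℤ) [I.IsStrictlyGE n], (∀ i, Injective (I.X i)) →
      IsIso (α.app ((HomotopyCategory.quotient C (ComplexShape.up ℤ)).obj I))) :
    Nonempty (E.rightDerivedFunctorPlus ⋙ DerivedCategory.Plus.ι ≅ DerivedCategory.Plus.ι ⋙ RE) := by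
  let ιI := (InjectiveObject.ι C).mapHomotopyCategoryPlus
  let P := RDPlus.injQh C
  let β : ιI ⋙ E.mapHomotopyCategoryPlus ⋙ DerivedCategory.Plus.Qh ⋙ DerivedCategory.Plus.ι ⟶
      P ⋙ E.rightDerivedFunctorPlus ⋙ DerivedCategory.Plus.ι :=
    Functor.whiskerLeft ιI (Functor.whiskerRight E.rightDerivedFunctorPlusUnit DerivedCategory.Plus.ι)
  let γ : ιI ⋙ HomotopyCategory.Plus.ι C ⋙ E.mapHomotopyCategory (ComplexShape.up ℤ) ⋙ DerivedCategory.Qh ⟶
      P ⋙ DerivedCategory.Plus.ι ⋙ RE :=
    Functor.whiskerLeft (ιI ⋙ HomotopyCategory.Plus.ι C) α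
  haveI hb : ∀ K, IsIso (β.app K) := fun K => by
    show IsIso (DerivedCategory.Plus.ι.map (E.rightDerivedFunctorPlusUnit.app (ιI.obj K)))
    infer_instance
  haveI hc : ∀ K, IsIso (γ.app K) := fun K => by
    obtain ⟨K₀, rfl⟩ := HomotopyCategory.Plus.quotient_obj_surjective K
    obtain ⟨n, hn⟩ := ((InjectiveObject.ι C).mapCochainComplexPlus.obj K₀).property
    haveI := hn
    exact hα ((InjectiveObject.ι C).mapCochainComplexPlus.obj K₀).obj n fun i => (K₀.obj.X i).property
  let e : P ⋙ E.rightDerivedFunctorPlus ⋙ DerivedCategory.Plus.ι ≅ P ⋙ DerivedCategory.Plus.ι ⋙ RE :=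
    NatIso.ofComponents (fun K => (@asIso _ _ _ _ (β.app K) (hb K)).symm ≪≫ @asIso _ _ _ _ (γ.app K) (hc K))
      (fun {K L} a => by
        show _ ≫ inv (β.app L) ≫ γ.app L = (inv (β.app K) ≫ γ.app K) ≫ _
        rw [Category.assoc, ← γ.naturality a, ← Category.assoc, ← Category.assoc]
        refine congrArg (· ≫ γ.app L) ?_
        rw [IsIso.comp_inv_eq, Category.assoc]
        exact ((IsIso.inv_comp_eq _).2 (β.naturality a)).symm)
  exact ⟨(Functor.leftUnitor _).symm ≪≫ Functor.isoWhiskerRight P.asEquivalence.counitIso.symm _ ≪≫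
    Functor.associator _ _ _ ≪≫ Functor.isoWhiskerLeft P.inv e ≪≫ (Functor.associator _ _ _).symm ≪≫
      Functor.isoWhiskerRight P.asEquivalence.counitIso _ ≪≫ Functor.leftUnitor _⟩

end Plus

variable {Λ : Type (u' + 1)} [CommRing Λ]

/-- The cycles at a degree where a complex is exact. -/
theorem shortExact_cycles {X : Scheme.{u'}} (L : CochainComplex (EtModW.Mod Λ X) ℤ) (m : ℤ)
    (h : L.ExactAt (m + 1)) :
    (ShortComplex.mk (kernel.ι (L.d m (m + 1))) (kernel.lift (L.d (m + 1) (m + 1 + 1)) (L.d m (m + 1))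
      (L.d_comp_d _ _ _)) (by rw [← cancel_mono (kernel.ι _), Category.assoc, kernel.lift_ι, kernel.condition,
        zero_comp])).ShortExact where
  exact := by
    rw [ShortComplex.exact_iff_exact_up_to_refinements]
    intro W x hx
    dsimp at x hx
    refine ⟨W, 𝟙 W, inferInstance, kernel.lift _ x ?_, ?_⟩
    · have := congrArg (· ≫ kernel.ι (L.d (m + 1) (m + 1 + 1))) hx
      simpa only [Category.assoc, kernel.lift_ι, zero_comp] using this
    · simp
  epi_g := by
    rw [HomologicalComplex.exactAt_iff' _ m (m + 1) (m + 1 + 1) (by simp) (by simp)] at h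
    exact h.epi_kernelLift

section Bound

variable {n : ℕ} (hn : 0 < n) (hΛ : (n : Λ) = 0) {X S : Scheme.{u'}} [CompactSpace X]
  (f : X ⟶ S) [IsProper f] [EtBC.HasRpushMod Λ f]

include hn hΛ

/-- `Rf_*` has bounded cohomological amplitude. -/
theorem exists_isLE_RpushModD :
    ∃ d : ℕ, ∀ (K : EtModD.D Λ X) (b : ℤ), K.IsLE b → ((EtBC.RpushModD Λ f).obj K).IsLE (b + d) := by
  obtain ⟨N, hN⟩ := CdFieldLib.exists_fibre_dim_le f
  refine ⟨2 * N, fun K b hK => ?_⟩
  haveI := hK
  haveI : IsGrothendieckAbelian.{u' + 1} (EtModW.Mod Λ X) := inferInstance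
  obtain ⟨I, s, hI, hs, -, hinj⟩ := KInj.exists_isKInjective_resolution (DerivedCategory.Q.objPreimage K)
  haveI := hI
  haveI := hs
  let eI : DerivedCategory.Q.obj I ≅ K :=
    (asIso (DerivedCategory.Q.map s)).symm ≪≫ DerivedCategory.Q.objObjPreimageIso K
  haveI : (DerivedCategory.Q.obj I).IsLE b := DerivedCategory.TStructure.t.isLE_of_iso eI.symm b
  haveI : I.IsLE b := (DerivedCategory.isLE_Q_obj_iff I b).1 inferInstance
  haveI := isIso_unitM Λ f I
  let e : (EtBC.RpushModD Λ f).obj K ≅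
      DerivedCategory.Q.obj (((EtModW.push Λ f).mapHomologicalComplex (ComplexShape.up ℤ)).obj I) :=
    (EtBC.RpushModD Λ f).mapIso (eI.symm ≪≫ ((DerivedCategory.quotientCompQhIso _).app I).symm) ≪≫
      (asIso ((unitM Λ f).app ((HomotopyCategory.quotient _ (ComplexShape.up ℤ)).obj I))).symm ≪≫
      (DerivedCategory.quotientCompQhIso _).app
        (((EtModW.push Λ f).mapHomologicalComplex (ComplexShape.up ℤ)).obj I)
  suffices h : CochainComplex.IsLE (((EtModW.push Λ f).mapHomologicalComplex (ComplexShape.up ℤ)).obj I)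
      (b + (2 * N : ℕ)) by
    haveI := (DerivedCategory.isLE_Q_obj_iff _ _).2 h
    exact DerivedCategory.TStructure.t.isLE_of_iso e.symm _
  refine (CochainComplex.isLE_iff _ _).2 fun i hi => ?_
  have hex : ∀ m, b < m → I.ExactAt m := fun m hm => (CochainComplex.isLE_iff I b).1 inferInstance m hm
  let T : ℤ → ShortComplex (EtModW.Mod Λ X) := fun m =>
    ShortComplex.mk (kernel.ι (I.d m (m + 1))) (kernel.lift (I.d (m + 1) (m + 1 + 1)) (I.d m (m + 1))
      (I.d_comp_d _ _ _)) (by rw [← cancel_mono (kernel.ι _), Category.assoc, kernel.lift_ι, kernel.condition, zero_comp])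
  let U : ℤ → ShortComplex (EtCoh.Ab X) := fun m => (T m).map (EtModD.forgetToAb Λ X)
  have hU : ∀ m, b ≤ m → (U m).ShortExact := fun m hm => (shortExact_cycles I m (hex _ (by omega))).map_of_exact _
  obtain ⟨Δ⟩ := RDerLib.nonempty_derivedLES (EtCoh.push f)
  have hac : ∀ m q, IsZero ((EtCoh.Rpush f (q + 1)).obj (U m).X₂) := fun m q =>
    haveI := hinj m; PBCLib.isAcyclicFor_forget_injective f Λ (I.X m) q
  have key : ∀ k q : ℕ, ∀ m, 2 * N < q + 1 + k → b + k ≤ m →
      IsZero ((EtCoh.Rpush f (q + 1)).obj (U m).X₁) := by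
    intro k
    induction k with
    | zero =>
      intro q m hq _
      exact CdFieldLib.isZero_Rpush_of_fibre_dim f N hN _
        (PBCLib.isTorsion_of_killedBy' hn (killedBy_fgt hΛ _)) (q + 1) (by omega)
    | succ k ih =>
      intro q m hq hm
      obtain ⟨m', rfl⟩ : ∃ m', m = m' + 1 := ⟨m - 1, by omega⟩
      haveI : Mono (Δ.δ (U m') (hU m' (by omega)) (q + 1) (q + 1 + 1) rfl) :=
        (Δ.exact₃ (U m') (hU m' (by omega)) (q + 1) (q + 1 + 1) rfl).mono_g ((hac m' q).eq_of_src _ _)
      exact IsZero.of_mono (Δ.δ (U m') (hU m' (by omega)) (q + 1) (q + 1 + 1) rfl)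
        (ih (q + 1) m' (by omega) (by omega))
  obtain ⟨p, rfl⟩ : ∃ p, i = p + 1 := ⟨i - 1, by omega⟩
  haveI : (EtCoh.push f).Additive := (EtCoh.pullPushAdj f).right_adjoint_additive
  haveI : PreservesFiniteLimits (EtCoh.push f) :=
    (EtCoh.pullPushAdj f).rightAdjoint_preservesLimits.{0, 0}.preservesFiniteLimits
  haveI : PreservesFiniteLimits (EtModW.push Λ f) :=
    (EtSix.pullPushModAdj Λ f).rightAdjoint_preservesLimits.{0, 0}.preservesFiniteLimits
  haveI hepi : Epi ((EtModW.push Λ f).map (T p).g) := by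
    refine (EtModD.forgetToAb Λ S).epi_of_epi_map ?_
    show Epi ((EtCoh.push f).map (U p).g)
    haveI : Epi ((EtCoh.Rpush f 0).map (U p).g) :=
      (Δ.exact₃ (U p) (hU p (by omega)) 0 1 rfl).epi_f
        ((key (2 * N) 0 p (by omega) (by omega)).eq_of_tgt _ _)
    have hnat := (EtCoh.push f).toRightDerivedZero.naturality (U p).g
    have : Epi ((EtCoh.push f).map (U p).g ≫ (EtCoh.push f).toRightDerivedZero.app (U p).X₃) := by
      rw [hnat]
      exact epi_comp _ _
    haveI := this
    rw [← Category.comp_id ((EtCoh.push f).map (U p).g),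
      ← IsIso.hom_inv_id ((EtCoh.push f).toRightDerivedZero.app (U p).X₃), ← Category.assoc]
    exact epi_comp _ _
  rw [HomologicalComplex.exactAt_iff' _ p (p + 1) (p + 1 + 1) (by simp) (by simp)]
  let hk := isLimitForkMapOfIsLimit' (EtModW.push Λ f) (kernel.condition (I.d (p + 1) (p + 1 + 1)))
    (kernelIsKernel (I.d (p + 1) (p + 1 + 1)))
  rw [ShortComplex.exact_iff_exact_up_to_refinements]
  intro W x hx
  obtain ⟨y, hy⟩ := KernelFork.IsLimit.lift' hk x hx
  obtain ⟨W', π, hπ, x', hx'⟩ := surjective_up_to_refinements_of_epi ((EtModW.push Λ f).map (T p).g) y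
  refine ⟨W', π, hπ, x', ?_⟩
  refine ((congrArg (π ≫ ·) hy).symm.trans ?_)
  refine (Category.assoc _ _ _).symm.trans ((congrArg (· ≫ _) hx').trans ((Category.assoc _ _ _).trans ?_))
  exact congrArg (x' ≫ ·) (((EtModW.push Λ f).map_comp _ _).symm.trans (congrArg _ (kernel.lift_ι _ _ _)))

end Bound

section Shriek

/-- An exact functor preserves upper bounds. -/
theorem isLE_mapDerivedCategory {A : Type u} [Category.{v} A] [Abelian A] {B : Type u'} [Category.{v'} B]
    [Abelian B] (F : A ⥤ B) [F.Additive] [PreservesFiniteLimits F] [PreservesFiniteColimits F]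
    (K : DerivedCategory A) (b : ℤ) (hK : K.IsLE b) : (F.mapDerivedCategory.obj K).IsLE b := by
  haveI := hK
  obtain ⟨L, hL, ⟨eL⟩⟩ := DerivedCategory.exists_iso_Q_obj_of_isLE K b
  haveI := hL
  haveI : CochainComplex.IsStrictlyLE ((F.mapHomologicalComplex (ComplexShape.up ℤ)).obj L) b :=
    (CochainComplex.isStrictlyLE_iff _ b).2 fun i hi => F.map_isZero (CochainComplex.isZero_of_isStrictlyLE L b i hi)
  haveI : (DerivedCategory.Q.obj ((F.mapHomologicalComplex (ComplexShape.up ℤ)).obj L)).IsLE b := inferInstance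
  haveI : DerivedCategory.IsLE ((F.mapHomologicalComplex (ComplexShape.up ℤ) ⋙ DerivedCategory.Q).obj L) b :=
    inferInstanceAs (DerivedCategory.IsLE (DerivedCategory.Q.obj ((F.mapHomologicalComplex (ComplexShape.up ℤ)).obj L)) b)
  exact DerivedCategory.TStructure.t.isLE_of_iso
    ((F.mapDerivedCategoryFactors.app L).symm ≪≫ F.mapDerivedCategory.mapIso eL.symm) b

variable {n : ℕ} (hn : 0 < n) (hΛ : (n : Λ) = 0) {X S : Scheme.{u'}} [CompactSpace S] {f : X ⟶ S}
  (c : DEt.Compactification f)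

include hn hΛ

/-- **`Rf_!` has a right adjoint on `D⁺`.** -/
theorem isLeftAdjoint_RshriekPlus : (EtDl.RshriekPlus Λ c).IsLeftAdjoint := by
  haveI := c.isProper
  haveI := c.isOpenImmersion
  haveI := hasRpushMod Λ c.fbar
  haveI : CompactSpace c.Xbar := QuasiCompact.compactSpace_of_compactSpace c.fbar
  haveI : IsGrothendieckAbelian.{u' + 1} (EtModW.Mod Λ X) := inferInstance
  haveI : IsGrothendieckAbelian.{u' + 1} (EtModW.Mod Λ c.Xbar) := inferInstance
  haveI : IsGrothendieckAbelian.{u' + 1} (EtModW.Mod Λ S) := inferInstance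
  haveI : PreservesFiniteColimits (EtDl.extZeroMod Λ c.j) := by
    haveI : PreservesColimitsOfSize.{0, 0} (EtDl.extZeroMod Λ c.j) :=
      (EtDl.extZeroModAdj Λ c.j).leftAdjoint_preservesColimits
    exact PreservesColimitsOfSize.preservesFiniteColimits _
  -- the unbounded functor and its right adjoint
  let j' := (EtDl.extZeroMod Λ c.j).mapDerivedCategory
  let G := (EtDl.restrMod Λ c.j).mapHomotopyCategory (ComplexShape.up ℤ) ⋙ DerivedCategory.Qh
  haveI := KInj.hasRightDerivedFunctor (hresMod Λ c.Xbar) G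
  obtain ⟨a₁, -⟩ := BCDLib.exists_derivedAdj (hresMod Λ c.Xbar) (EtDl.extZeroModAdj Λ c.j) _
    (G.totalRightDerivedUnit DerivedCategory.Qh (HomotopyCategory.quasiIso _ (ComplexShape.up ℤ)))
  haveI := fun ι : Type (u' + 1) => preservesCoproducts_RpushModD hn hΛ c.fbar ι
  haveI : (EtBC.RpushModD Λ c.fbar).IsLeftAdjoint :=
    isLeftAdjoint_of_preservesCoproducts (EtBC.RpushModD Λ c.fbar)
  haveI : j'.IsLeftAdjoint := a₁.isLeftAdjoint
  let L := j' ⋙ EtBC.RpushModD Λ c.fbar
  let adj := Adjunction.ofIsLeftAdjoint L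
  let R' := L.rightAdjoint
  -- comparison with the functor on `D⁺`
  obtain ⟨ej⟩ := nonempty_plus_iso (EtDl.extZeroMod Λ c.j) j'
    (EtDl.extZeroMod Λ c.j).mapDerivedCategoryFactorsh.inv fun I _ _ _ => inferInstance
  obtain ⟨ef⟩ := nonempty_plus_iso (EtModW.push Λ c.fbar) (EtBC.RpushModD Λ c.fbar) (unitM Λ c.fbar)
    fun I m _ h => isIso_unitM_of_acyclic c.fbar I m fun i =>
      haveI := h i; PBCLib.isAcyclicFor_forget_injective c.fbar Λ (I.X i)
  let comm1 : DerivedCategory.Plus.ι ⋙ L ≅ EtDl.RshriekPlus Λ c ⋙ DerivedCategory.Plus.ι :=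
    (Functor.associator _ _ _).symm ≪≫ Functor.isoWhiskerRight ej.symm _ ≪≫ Functor.associator _ _ _ ≪≫
      Functor.isoWhiskerLeft _ ef.symm ≪≫ (Functor.associator _ _ _).symm
  -- the amplitude bound
  obtain ⟨d, hd⟩ := exists_isLE_RpushModD hn hΛ c.fbar
  have hR : ∀ K : DerivedCategory.Plus (EtModW.Mod Λ S),
      DerivedCategory.TStructure.t.plus (R'.obj (DerivedCategory.Plus.ι.obj K)) := fun K => by
    obtain ⟨a, ha⟩ := K.property
    refine ⟨a - d, ?_⟩
    rw [DerivedCategory.TStructure.t.isGE_iff_orthogonal (a - d - 1) (a - d) (by omega)]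
    intro M g hM
    have h1 : (L.obj M).IsLE (a - d - 1 + d) := hd _ _ (isLE_mapDerivedCategory _ M _ hM)
    haveI := h1
    haveI : (DerivedCategory.Plus.ι.obj K).IsGE a := ha
    apply (adj.homEquiv _ _).symm.injective
    rw [DerivedCategory.TStructure.t.zero ((adj.homEquiv _ _).symm g) (a - d - 1 + d) a (by omega),
      Adjunction.homEquiv_counit, Functor.map_zero, zero_comp]
  let R := ObjectProperty.lift DerivedCategory.TStructure.t.plus (DerivedCategory.Plus.ι ⋙ R') hR
  exact (adj.restrictFullyFaithful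
    (DerivedCategory.TStructure.t (C := EtModW.Mod Λ X)).plus.fullyFaithfulι
    (DerivedCategory.TStructure.t (C := EtModW.Mod Λ S)).plus.fullyFaithfulι
    (L := EtDl.RshriekPlus Λ c) (R := R) comm1 (Iso.refl _)).isLeftAdjoint

end Shriek

end Groth.Agent.UnbddLib
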