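import Groth.Agent.UnbddLib.Shriek
import Groth.Agent.CdFieldLib.Shriek
import Groth.Agent.CohDerAcyc.Bound

/-!
# Cohomological amplitude of `Rf_!` and of its right adjoint
-/

set_option autoImplicit false
set_option linter.style.haveILetI false
set_option linter.unusedSectionVars false
set_option backward.isDefEq.respectTransparency false
set_option backward.isDefEq.respectTransparency.types false
set_option maxHeartbeats 1000000
set_option synthInstance.maxHeartbeats 400000

universe w v u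

open CategoryTheory CategoryTheory.Limits AlgebraicGeometry Pretriangulated

attribute [local instance] HasDerivedCategory.standard

noncomputable section

namespace Groth.Agent.UnbddLib

/-- A property closed under extensions which holds for objects in single degrees holds for bounded objects. -/
theorem bounded_induction {C : Type u} [Category.{v} C] [Abelian C] (P : DerivedCategory C → Prop)
    (hiso : ∀ {X Y : DerivedCategory C}, (X ≅ Y) → P X → P Y) (hzero : ∀ Z : DerivedCategory C, IsZero Z → P Z)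
    (hext : ∀ T ∈ distTriang (DerivedCategory C), P T.obj₁ → P T.obj₃ → P T.obj₂) (a : ℤ) :
    ∀ (k : ℕ) (K : DerivedCategory C), K.IsGE a → K.IsLE (a + k - 1) →
      (∀ (p : ℤ) (F : C), a ≤ p → p ≤ a + k - 1 → P ((DerivedCategory.singleFunctor C p).obj F)) → P K := by
  intro k
  induction k with
  | zero =>
    intro K hGE hLE _
    haveI := hGE
    haveI := hLE
    exact hzero K (DerivedCategory.TStructure.t.isZero K (a + (0 : ℕ) - 1) a (by simp))
  | succ k ih =>
    intro K hGE hLE hs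
    haveI := hGE
    haveI := hLE
    let t := DerivedCategory.TStructure.t (C := C)
    let m : ℤ := a + k
    have hT := t.triangleLTGE_distinguished m K
    have hr := rot_of_distTriang _ hT
    have hi := inv_rot_of_distTriang _ hT
    haveI : t.IsGE ((t.truncLT m).obj K) a := by
      refine t.isGE₂ _ hi a ?_ hGE
      haveI : t.IsGE ((t.truncGE m).obj K) m := inferInstance
      haveI := t.isGE_shift ((t.truncGE m).obj K) m (-1) (m + 1)
      exact t.isGE_of_ge (((t.truncGE m).obj K)⟦(-1 : ℤ)⟧) a (m + 1) (by omega)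
    haveI : t.IsLE ((t.truncGE m).obj K) m := by
      refine t.isLE₂ _ hr m ?_ ?_
      · exact t.isLE_of_le K (a + ((k + 1 : ℕ) : ℤ) - 1) m (by omega)
      · haveI : t.IsLE ((t.truncLT m).obj K) (m - 1) := inferInstance
        haveI := t.isLE_shift ((t.truncLT m).obj K) (m - 1) 1 (m - 1 - 1)
        exact t.isLE_of_le (((t.truncLT m).obj K)⟦(1 : ℤ)⟧) (m - 1 - 1) m (by omega)
    refine hext _ hT (ih _ ‹_› ?_ fun p F h1 h2 => hs p F h1 (by omega)) ?_
    · exact inferInstanceAs (t.IsLE ((t.truncLT m).obj K) (m - 1))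
    · haveI : t.IsGE ((t.truncGE m).obj K) m := inferInstance
      obtain ⟨F, ⟨e⟩⟩ := DerivedCategory.exists_iso_singleFunctor_obj_of_isGE_of_isLE ((t.truncGE m).obj K) m
      exact hiso e.symm (hs m F (by omega) (by omega))

variable {Λ : Type (u + 1)} [CommRing Λ] {n : ℕ} (hn : 0 < n) (hΛ : (n : Λ) = 0)
  {X S : Scheme.{u}} {f : X ⟶ S} (c : DEt.Compactification f)

/-- The functor on unbounded derived categories restricting to `Rf_!`. -/
abbrev RshriekD [EtBC.HasRpushMod Λ c.fbar] [PreservesFiniteLimits (EtDl.extZeroMod Λ c.j)]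
    [PreservesFiniteColimits (EtDl.extZeroMod Λ c.j)] : EtModD.D Λ X ⥤ EtModD.D Λ S :=
  (EtDl.extZeroMod Λ c.j).mapDerivedCategory ⋙ EtBC.RpushModD Λ c.fbar

instance preservesFiniteColimits_extZeroMod' {U Y : Scheme.{u}} (j : U ⟶ Y) [Etale j] [EtShriek.JCont j] :
    PreservesFiniteColimits (EtDl.extZeroMod Λ j) := by
  haveI : PreservesColimitsOfSize.{0, 0} (EtDl.extZeroMod Λ j) :=
    (EtDl.extZeroModAdj Λ j).leftAdjoint_preservesColimits
  exact PreservesColimitsOfSize.preservesFiniteColimits _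

theorem nonempty_RshriekPlus_iso [EtBC.HasRpushMod Λ c.fbar] :
    Nonempty (EtDl.RshriekPlus Λ c ⋙ DerivedCategory.Plus.ι ≅ DerivedCategory.Plus.ι ⋙ RshriekD (Λ := Λ) c) := by
  obtain ⟨ej⟩ := nonempty_plus_iso (EtDl.extZeroMod Λ c.j) (EtDl.extZeroMod Λ c.j).mapDerivedCategory
    (EtDl.extZeroMod Λ c.j).mapDerivedCategoryFactorsh.inv fun I _ _ _ => inferInstance
  obtain ⟨ef⟩ := nonempty_plus_iso (EtModW.push Λ c.fbar) (EtBC.RpushModD Λ c.fbar) (unitM Λ c.fbar)
    fun I m _ h => isIso_unitM_of_acyclic c.fbar I m fun i =>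
      haveI := h i; PBCLib.isAcyclicFor_forget_injective c.fbar Λ (I.X i)
  exact ⟨Functor.associator _ _ _ ≪≫ Functor.isoWhiskerLeft _ ef ≪≫ (Functor.associator _ _ _).symm ≪≫
    Functor.isoWhiskerRight ej _ ≪≫ Functor.associator _ _ _⟩

include hn hΛ

/-- `Rf_!` of a sheaf in degree `p` lives in degrees `≤ p + 2d`. -/
theorem isLE_RshriekD_single [EtBC.HasRpushMod Λ c.fbar] (d : ℕ)
    (hdim : ∀ s : S, topologicalKrullDim ↥(f.fiber s) ≤ d) (p : ℤ) (F : EtModW.Mod Λ X) :
    ((RshriekD (Λ := Λ) c).obj ((DerivedCategory.singleFunctor _ p).obj F)).IsLE (p + 2 * (d : ℤ)) := by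
  haveI := c.isProper
  haveI := c.isOpenImmersion
  haveI : LocallyOfFiniteType (c.j ≫ c.fbar) := inferInstance
  haveI : IsGrothendieckAbelian.{u + 1} (EtModW.Mod Λ c.Xbar) := inferInstance
  let G := (EtDl.extZeroMod Λ c.j).obj F
  let C₀ := (CochainComplex.singleFunctor (EtModW.Mod Λ c.Xbar) p).obj G
  haveI : C₀.IsStrictlyGE p := inferInstance
  obtain ⟨I, s, hs, hJ, hIp⟩ := CochainComplex.Plus.modelCategoryQuillen.exists_quasiIso_injective C₀ p
  haveI := hs
  haveI := hIp
  haveI : ∀ m, Injective (I.X m) := hJ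
  haveI := CochainComplex.isKInjective_of_injective I p
  haveI := isIso_unitM Λ c.fbar I
  let e₀ : DerivedCategory.Q.obj C₀ ≅ ((EtDl.extZeroMod Λ c.j).mapDerivedCategory).obj
      ((DerivedCategory.singleFunctor _ p).obj F) :=
    ((DerivedCategory.singleFunctorIsoCompQ _ p).app G).symm ≪≫
      (((EtDl.extZeroMod Λ c.j).mapDerivedCategorySingleFunctor p).app F).symm
  let P := ((EtModW.push Λ c.fbar).mapHomologicalComplex (ComplexShape.up ℤ)).obj I
  let e : DerivedCategory.Q.obj P ≅ (RshriekD (Λ := Λ) c).obj ((DerivedCategory.singleFunctor _ p).obj F) :=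
    ((DerivedCategory.quotientCompQhIso _).app P).symm ≪≫
      asIso ((unitM Λ c.fbar).app ((HomotopyCategory.quotient _ (ComplexShape.up ℤ)).obj I)) ≪≫
      (EtBC.RpushModD Λ c.fbar).mapIso ((DerivedCategory.quotientCompQhIso _).app I ≪≫
        (asIso (DerivedCategory.Q.map s)).symm ≪≫ e₀)
  suffices h : CochainComplex.IsLE P (p + 2 * (d : ℤ)) by
    haveI := (DerivedCategory.isLE_Q_obj_iff _ _).2 h
    exact DerivedCategory.TStructure.t.isLE_of_iso e _
  refine (CochainComplex.isLE_iff _ _).2 fun i hi => ?_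
  haveI hiso : ∀ m, IsIso (HomologicalComplex.homologyMap s m) := fun m =>
    (quasiIsoAt_iff_isIso_homologyMap s m).1 (hs.quasiIsoAt m)
  have hex : ∀ m, p < m → I.ExactAt m := fun m hm => by
    rw [HomologicalComplex.exactAt_iff_isZero_homology]
    exact ((HomologicalComplex.exactAt_single_obj _ p G m (by omega)).isZero_homology).of_iso
      (asIso (HomologicalComplex.homologyMap s m)).symm
  let T : ℤ → ShortComplex (EtModW.Mod Λ c.Xbar) := fun m =>
    ShortComplex.mk (kernel.ι (I.d m (m + 1))) (kernel.lift (I.d (m + 1) (m + 1 + 1)) (I.d m (m + 1))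
      (I.d_comp_d _ _ _)) (by rw [← cancel_mono (kernel.ι _), Category.assoc, kernel.lift_ι, kernel.condition, zero_comp])
  let U : ℤ → ShortComplex (EtCoh.Ab c.Xbar) := fun m => (T m).map (EtModD.forgetToAb Λ c.Xbar)
  have hU : ∀ m, p ≤ m → (U m).ShortExact := fun m hm => (shortExact_cycles I m (hex _ (by omega))).map_of_exact _
  have hz : IsZero (I.X (p - 1)) := CochainComplex.isZero_of_isStrictlyGE I p _ (by omega)
  let eC : I.cycles p ≅ kernel (I.d p (p + 1)) :=
    IsLimit.conePointUniqueUpToIso (I.cyclesIsKernel p (p + 1) (by simp)) (limit.isLimit _)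
  let eZ : kernel (I.d p (p + 1)) ≅ G :=
    eC.symm ≪≫
      (haveI : IsIso (I.homologyπ p) := I.isIso_homologyπ (p - 1) p (by simp) (hz.eq_of_src _ _)
       asIso (I.homologyπ p)) ≪≫ (asIso (HomologicalComplex.homologyMap s p)).symm ≪≫
      HomologicalComplex.singleObjHomologySelfIso _ p G
  obtain ⟨Δ⟩ := RDerLib.nonempty_derivedLES (EtCoh.push c.fbar)
  have key : ∀ k q : ℕ, 2 * d < q + 1 + k → IsZero ((EtCoh.Rpush c.fbar (q + 1)).obj (U (p + k)).X₁) := by
    intro k
    induction k with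
    | zero =>
      intro q hq
      haveI := isIso_fgtExtZero Λ c.j F
      let e' : (EtModD.forgetToAb Λ c.Xbar).obj (kernel (I.d (p + ((0 : ℕ) : ℤ)) (p + ((0 : ℕ) : ℤ) + 1))) ≅
          (EtShriek.extZero c.j).obj ((EtModD.forgetToAb Λ X).obj F) :=
        (EtModD.forgetToAb Λ c.Xbar).mapIso (eqToIso (by rw [show p + ((0 : ℕ) : ℤ) = p by simp]) ≪≫ eZ) ≪≫ (asIso (fgtExtZero Λ c.j F)).symm
      refine (CdFieldLib.isZero_Rpush_extZero c.j c.fbar d (fun s => ?_) _
        (PBCLib.isTorsion_of_killedBy' hn (killedBy_fgt hΛ F)) (q + 1) (by omega)).of_iso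
        ((EtCoh.Rpush c.fbar (q + 1)).mapIso e')
      have := hdim s
      rwa [← c.fac] at this
    | succ k ih =>
      intro q hq
      have e : p + ((k + 1 : ℕ) : ℤ) = p + k + 1 := by push_cast; ring
      rw [e]
      haveI : Mono (Δ.δ (U (p + k)) (hU _ (by omega)) (q + 1) (q + 1 + 1) rfl) :=
        (Δ.exact₃ (U (p + k)) (hU _ (by omega)) (q + 1) (q + 1 + 1) rfl).mono_g
          ((PBCLib.isAcyclicFor_forget_injective c.fbar Λ (I.X (p + k)) q).eq_of_src _ _)
      exact IsZero.of_mono (Δ.δ (U (p + k)) (hU _ (by omega)) (q + 1) (q + 1 + 1) rfl) (ih (q + 1) (by omega))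
  obtain ⟨k, rfl⟩ : ∃ k : ℕ, i = p + k + 1 := ⟨(i - p - 1).toNat, by omega⟩
  haveI : (EtCoh.push c.fbar).Additive := (EtCoh.pullPushAdj c.fbar).right_adjoint_additive
  haveI : PreservesFiniteLimits (EtCoh.push c.fbar) :=
    (EtCoh.pullPushAdj c.fbar).rightAdjoint_preservesLimits.{0, 0}.preservesFiniteLimits
  haveI : PreservesFiniteLimits (EtModW.push Λ c.fbar) :=
    (EtSix.pullPushModAdj Λ c.fbar).rightAdjoint_preservesLimits.{0, 0}.preservesFiniteLimits
  haveI hepi : Epi ((EtModW.push Λ c.fbar).map (T (p + k)).g) := by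
    refine (EtModD.forgetToAb Λ S).epi_of_epi_map ?_
    show Epi ((EtCoh.push c.fbar).map (U (p + k)).g)
    haveI : Epi ((EtCoh.Rpush c.fbar 0).map (U (p + k)).g) :=
      (Δ.exact₃ (U (p + k)) (hU _ (by omega)) 0 1 rfl).epi_f ((key k 0 (by omega)).eq_of_tgt _ _)
    have hnat := (EtCoh.push c.fbar).toRightDerivedZero.naturality (U (p + k)).g
    have : Epi ((EtCoh.push c.fbar).map (U (p + k)).g ≫
        (EtCoh.push c.fbar).toRightDerivedZero.app (U (p + k)).X₃) := by
      rw [hnat]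
      exact epi_comp _ _
    haveI := this
    rw [← Category.comp_id ((EtCoh.push c.fbar).map (U (p + k)).g),
      ← IsIso.hom_inv_id ((EtCoh.push c.fbar).toRightDerivedZero.app (U (p + k)).X₃), ← Category.assoc]
    exact epi_comp _ _
  rw [HomologicalComplex.exactAt_iff' _ (p + k) (p + k + 1) (p + k + 1 + 1) (by simp) (by simp)]
  let hk := isLimitForkMapOfIsLimit' (EtModW.push Λ c.fbar) (kernel.condition (I.d (p + k + 1) (p + k + 1 + 1)))
    (kernelIsKernel (I.d (p + k + 1) (p + k + 1 + 1)))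
  rw [ShortComplex.exact_iff_exact_up_to_refinements]
  intro W x hx
  obtain ⟨y, hy⟩ := KernelFork.IsLimit.lift' hk x hx
  obtain ⟨W', π, hπ, x', hx'⟩ := surjective_up_to_refinements_of_epi ((EtModW.push Λ c.fbar).map (T (p + k)).g) y
  refine ⟨W', π, hπ, x', ?_⟩
  refine ((congrArg (π ≫ ·) hy).symm.trans ?_)
  refine (Category.assoc _ _ _).symm.trans ((congrArg (· ≫ _) hx').trans ((Category.assoc _ _ _).trans ?_))
  exact congrArg (x' ≫ ·) (((EtModW.push Λ c.fbar).map_comp _ _).symm.trans (congrArg _ (kernel.lift_ι _ _ _)))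

variable (d : ℕ) (hdim : ∀ s : S, topologicalKrullDim ↥(f.fiber s) ≤ d)

include hdim

/-- **Cohomological amplitude of `Rf_!`.** -/
theorem isLE_RshriekPlus (K : DerivedCategory.Plus (EtModW.Mod Λ X)) (b : ℤ) (hK : K.IsLE b) :
    ((EtDl.RshriekPlus Λ c).obj K).IsLE (b + 2 * (d : ℤ)) := by
  haveI := c.isProper
  haveI := hK
  haveI := hasRpushMod Λ c.fbar
  obtain ⟨e⟩ := nonempty_RshriekPlus_iso (Λ := Λ) c
  rw [← DerivedCategory.Plus.isLE_ι_obj_iff]
  suffices h : ((RshriekD (Λ := Λ) c).obj (DerivedCategory.Plus.ι.obj K)).IsLE (b + 2 * (d : ℤ)) by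
    haveI : DerivedCategory.TStructure.t.IsLE ((DerivedCategory.Plus.ι ⋙ RshriekD (Λ := Λ) c).obj K) _ := h
    exact DerivedCategory.TStructure.t.isLE_of_iso (e.app K).symm _
  obtain ⟨a, ha⟩ := K.property
  haveI : (DerivedCategory.Plus.ι.obj K).IsGE a := ha
  let a' := min a b
  haveI : (DerivedCategory.Plus.ι.obj K).IsGE a' := DerivedCategory.TStructure.t.isGE_of_ge _ a' a (min_le_left _ _)
  obtain ⟨k, hk⟩ : ∃ k : ℕ, b = a' + k - 1 := ⟨(b + 1 - a').toNat, by omega⟩
  refine bounded_induction (fun M => ((RshriekD (Λ := Λ) c).obj M).IsLE (b + 2 * (d : ℤ))) ?_ ?_ ?_ a' k _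
    inferInstance (hk ▸ inferInstance) fun p F _ hp => ?_
  · intro M N eMN h
    haveI := h
    exact DerivedCategory.TStructure.t.isLE_of_iso ((RshriekD (Λ := Λ) c).mapIso eMN) _
  · exact fun Z hZ => DerivedCategory.TStructure.t.isLE_of_isZero ((RshriekD (Λ := Λ) c).map_isZero hZ) _
  · intro T hT h₁ h₃
    exact DerivedCategory.TStructure.t.isLE₂ _ ((RshriekD (Λ := Λ) c).map_distinguished _ hT) _ h₁ h₃
  · haveI := isLE_RshriekD_single hn hΛ c d hdim p F
    exact DerivedCategory.TStructure.t.isLE_of_le _ (p + 2 * (d : ℤ)) _ (by omega)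

/-- **Lower bound for the right adjoint of `Rf_!`.** -/
theorem isGE_upperShriek (G : DerivedCategory.Plus (EtModW.Mod Λ S) ⥤ DerivedCategory.Plus (EtModW.Mod Λ X))
    (adj : EtDl.RshriekPlus Λ c ⊣ G) (L : DerivedCategory.Plus (EtModW.Mod Λ S)) (k : ℤ) (hL : L.IsGE k) :
    (G.obj L).IsGE (k - 2 * (d : ℤ)) := by
  haveI := hL
  refine (DerivedCategory.Plus.TStructure.t.isGE_iff_orthogonal (k - 2 * (d : ℤ) - 1) (k - 2 * (d : ℤ))
    (by omega) _).2 ?_
  intro M g hM
  haveI := isLE_RshriekPlus hn hΛ c d hdim M _ hM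
  apply (adj.homEquiv _ _).symm.injective
  exact (DerivedCategory.Plus.TStructure.t.zero _ (k - 2 * (d : ℤ) - 1 + 2 * (d : ℤ)) k (by omega)).trans
    (DerivedCategory.Plus.TStructure.t.zero _ (k - 2 * (d : ℤ) - 1 + 2 * (d : ℤ)) k (by omega)).symm

omit hdim

/-- **The injective amplitude of `Rf^!`.** -/
theorem subsingleton_hom_upperShriek [CompactSpace S]
    (G : DerivedCategory.Plus (EtModW.Mod Λ S) ⥤ DerivedCategory.Plus (EtModW.Mod Λ X))
    (adj : EtDl.RshriekPlus Λ c ⊣ G) (L : DerivedCategory.Plus (EtModW.Mod Λ S)) (m : ℤ)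
    (hL : ∀ (F : EtModW.Mod Λ S) (i : ℤ), m < i →
      Subsingleton ((DerivedCategory.Plus.singleFunctor (EtModW.Mod Λ S) 0).obj F ⟶ L⟦i⟧))
    (F : EtModW.Mod Λ X) (i : ℤ) (hi : m < i) :
    Subsingleton ((DerivedCategory.Plus.singleFunctor (EtModW.Mod Λ X) 0).obj F ⟶ (G.obj L)⟦i⟧) := by
  haveI := c.isProper
  haveI : CompactSpace c.Xbar := QuasiCompact.compactSpace_of_compactSpace c.fbar
  haveI := hasRpushMod Λ c.fbar
  obtain ⟨e⟩ := nonempty_RshriekPlus_iso (Λ := Λ) c
  obtain ⟨N, hN⟩ := exists_isLE_RpushModD hn hΛ c.fbar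
  let M := ((DerivedCategory.Plus.singleFunctor (EtModW.Mod Λ X) 0).obj F)⟦-i⟧
  let Ms := (DerivedCategory.singleFunctor (EtModW.Mod Λ X) i).obj F
  let eM : DerivedCategory.Plus.ι.obj M ≅ Ms :=
    (DerivedCategory.Plus.ι.commShiftIso (-i)).app _ ≪≫
      ((DerivedCategory.singleFunctors (EtModW.Mod Λ X)).shiftIso (-i) i 0 (by omega)).app F
  suffices h : ∀ g : (EtDl.RshriekPlus Λ c).obj M ⟶ L, g = 0 by
    refine ⟨fun x y => ?_⟩
    let A := (shiftEquiv (DerivedCategory.Plus (EtModW.Mod Λ X)) i).symm.toAdjunction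
    apply (A.homEquiv _ _).symm.injective
    apply (adj.homEquiv _ _).symm.injective
    exact (h _).trans (h _).symm
  intro g
  haveI : (DerivedCategory.Plus.ι.obj ((EtDl.RshriekPlus Λ c).obj M)).IsGE i := by
    haveI : M.IsGE i := DerivedCategory.Plus.TStructure.t.isGE_shift _ 0 (-i) i
    haveI := CohDerAcyc.isGE_rightDerivedFunctorPlus (EtDl.extZeroMod Λ c.j) M i
    haveI := CohDerAcyc.isGE_rightDerivedFunctorPlus (EtModW.push Λ c.fbar) ((EtDl.extZeroPlus Λ c.j).obj M) i
    exact inferInstanceAs ((DerivedCategory.Plus.ι.obj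
      ((EtDl.pushPlus Λ c.fbar).obj ((EtDl.extZeroPlus Λ c.j).obj M))).IsGE i)
  haveI : (DerivedCategory.Plus.ι.obj ((EtDl.RshriekPlus Λ c).obj M)).IsLE (i + N - 1 + 1) := by
    haveI : ((RshriekD (Λ := Λ) c).obj Ms).IsLE (i + N) := hN _ _ (isLE_mapDerivedCategory _ Ms i inferInstance)
    haveI : DerivedCategory.TStructure.t.IsLE (DerivedCategory.Plus.ι.obj ((EtDl.RshriekPlus Λ c).obj M)) (i + N) :=
      DerivedCategory.TStructure.t.isLE_of_iso ((RshriekD (Λ := Λ) c).mapIso eM.symm ≪≫ (e.app M).symm) (i + N)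
    exact DerivedCategory.TStructure.t.isLE_of_le _ (i + N) _ (by omega)
  refine DerivedCategory.Plus.ι.map_injective ((bounded_induction
    (fun W => ∀ w : W ⟶ DerivedCategory.Plus.ι.obj L, w = 0) ?_ (fun Z hZ w => hZ.eq_of_src _ _) ?_ i (N + 1) _
    inferInstance ?_ ?_ (DerivedCategory.Plus.ι.map g)).trans (Functor.map_zero _ _ _).symm)
  · intro W W' eW h w
    rw [← cancel_epi eW.hom, h (eW.hom ≫ w), comp_zero]
  · intro T hT h₁ h₃ w
    obtain ⟨w', hw'⟩ := Triangle.yoneda_exact₂ T hT w (h₁ _)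
    rw [hw', h₃ w', comp_zero]
  · exact DerivedCategory.TStructure.t.isLE_of_le _ (i + N - 1 + 1) _ (by omega)
  · intro p E hp _ w
    let eE : DerivedCategory.Plus.ι.obj (((DerivedCategory.Plus.singleFunctor (EtModW.Mod Λ S) 0).obj E)⟦-p⟧) ≅
        (DerivedCategory.singleFunctor (EtModW.Mod Λ S) p).obj E :=
      (DerivedCategory.Plus.ι.commShiftIso (-p)).app _ ≪≫
        ((DerivedCategory.singleFunctors (EtModW.Mod Λ S)).shiftIso (-p) p 0 (by omega)).app E
    obtain ⟨w', hw'⟩ := DerivedCategory.Plus.ι.map_surjective (eE.hom ≫ w)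
    let A := (shiftEquiv (DerivedCategory.Plus (EtModW.Mod Λ S)) p).symm.toAdjunction
    haveI : Subsingleton ((DerivedCategory.Plus.singleFunctor (EtModW.Mod Λ S) 0).obj E ⟶
        (shiftEquiv (DerivedCategory.Plus (EtModW.Mod Λ S)) p).symm.inverse.obj L) := hL E p (by omega)
    have : w' = 0 := (A.homEquiv _ _).injective (Subsingleton.elim _ _)
    rw [← cancel_epi eE.hom, comp_zero, ← hw', this, Functor.map_zero]

end Groth.Agent.UnbddLib
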