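import Groth.Agent.UnbddLib.LiftMod
import Groth.Agent.UnbddLib.Shriek2
import Groth.Agent.UnbddLib.ProperCoprod
import Groth.Agent.ShriekProper.BaseChange
import Groth.Agent.S4333
import Groth.Prelude.Def_FixPt

/-!
# Base change for `Rf_!` on bounded below derived categories, as isomorphisms of functors
-/

set_option autoImplicit false
set_option linter.style.haveILetI false
set_option linter.unusedSectionVars false
set_option backward.isDefEq.respectTransparency false
set_option backward.isDefEq.respectTransparency.types false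
set_option synthInstance.maxHeartbeats 400000
set_option maxHeartbeats 1000000

universe w' v' u' v u₁ u₂ v₁ v₂ u

open CategoryTheory CategoryTheory.Limits AlgebraicGeometry Opposite

attribute [local instance] HasDerivedCategory.standard

noncomputable section

namespace Groth.Agent.UnbddLib

section Exact

variable {A : Type u'} [Category.{v'} A] [Abelian A] {B : Type u₁} [Category.{v₁} B] [Abelian B]
  {C : Type u₂} [Category.{v₂} C] [Abelian C]

/-- The derived functors of exact functors compose. -/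
def mapDerivedComp (F : A ⥤ B) (G : B ⥤ C) (H : A ⥤ C) [F.Additive] [PreservesFiniteLimits F]
    [PreservesFiniteColimits F] [G.Additive] [PreservesFiniteLimits G] [PreservesFiniteColimits G]
    [H.Additive] [PreservesFiniteLimits H] [PreservesFiniteColimits H] (e : F ⋙ G ≅ H) :
    F.mapDerivedCategory ⋙ G.mapDerivedCategory ≅ H.mapDerivedCategory :=
  letI : Localization.Lifting DerivedCategory.Q (HomologicalComplex.quasiIso A (ComplexShape.up ℤ))
      (DerivedCategory.Q ⋙ F.mapDerivedCategory ⋙ G.mapDerivedCategory)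
      (F.mapDerivedCategory ⋙ G.mapDerivedCategory) := ⟨Iso.refl _⟩
  letI : Localization.Lifting DerivedCategory.Q (HomologicalComplex.quasiIso A (ComplexShape.up ℤ))
      (DerivedCategory.Q ⋙ H.mapDerivedCategory) H.mapDerivedCategory := ⟨Iso.refl _⟩
  Localization.liftNatIso DerivedCategory.Q (HomologicalComplex.quasiIso A (ComplexShape.up ℤ))
    (DerivedCategory.Q ⋙ F.mapDerivedCategory ⋙ G.mapDerivedCategory) (DerivedCategory.Q ⋙ H.mapDerivedCategory) _ _
    ((Functor.associator _ _ _).symm ≪≫ Functor.isoWhiskerRight F.mapDerivedCategoryFactors _ ≪≫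
      Functor.associator _ _ _ ≪≫ Functor.isoWhiskerLeft _ G.mapDerivedCategoryFactors ≪≫
      (Functor.associator _ _ _).symm ≪≫
      Functor.isoWhiskerRight (NatIso.ofComponents
        (fun K => HomologicalComplex.Hom.isoOfComponents (fun i => e.app (K.X i))
          (fun i k _ => (e.hom.naturality (K.d i k)).symm))
        (fun {K L} a => HomologicalComplex.hom_ext _ _ fun i => e.hom.naturality (a.f i)) :
          F.mapHomologicalComplex (ComplexShape.up ℤ) ⋙ G.mapHomologicalComplex (ComplexShape.up ℤ) ≅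
            H.mapHomologicalComplex (ComplexShape.up ℤ)) _ ≪≫
      H.mapDerivedCategoryFactors.symm)

/-- Isomorphisms into `D⁺` can be checked in `D`. -/
def liftPlusIso {E : Type*} [Category E] {Φ Ψ : E ⥤ DerivedCategory.Plus A}
    (e : Φ ⋙ DerivedCategory.Plus.ι ≅ Ψ ⋙ DerivedCategory.Plus.ι) : Φ ≅ Ψ :=
  ((Functor.FullyFaithful.ofFullyFaithful (DerivedCategory.Plus.ι (C := A))).whiskeringRight E).preimageIso e

theorem nonempty_plus_exact_iso [EnoughInjectives A] (F : A ⥤ B) [F.Additive] [PreservesFiniteLimits F]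
    [PreservesFiniteColimits F] :
    Nonempty (F.rightDerivedFunctorPlus ⋙ DerivedCategory.Plus.ι ≅ DerivedCategory.Plus.ι ⋙ F.mapDerivedCategory) :=
  nonempty_plus_iso F F.mapDerivedCategory F.mapDerivedCategoryFactorsh.inv fun _ _ _ _ => inferInstance

/-- Two composites of exact functors which are isomorphic have isomorphic derived composites. -/
theorem nonempty_plus_square [EnoughInjectives A] [EnoughInjectives B] {B' : Type u₁} [Category.{v₁} B'] [Abelian B']
    [EnoughInjectives B'] (F : A ⥤ B) (G : B ⥤ C) (F' : A ⥤ B') (G' : B' ⥤ C) [F.Additive] [PreservesFiniteLimits F]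
    [PreservesFiniteColimits F] [G.Additive] [PreservesFiniteLimits G] [PreservesFiniteColimits G]
    [F'.Additive] [PreservesFiniteLimits F'] [PreservesFiniteColimits F'] [G'.Additive] [PreservesFiniteLimits G']
    [PreservesFiniteColimits G'] (e : F ⋙ G ≅ F' ⋙ G') :
    Nonempty (F.rightDerivedFunctorPlus ⋙ G.rightDerivedFunctorPlus ≅
      F'.rightDerivedFunctorPlus ⋙ G'.rightDerivedFunctorPlus) := by
  obtain ⟨eF⟩ := nonempty_plus_exact_iso F
  obtain ⟨eG⟩ := nonempty_plus_exact_iso G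
  obtain ⟨eF'⟩ := nonempty_plus_exact_iso F'
  obtain ⟨eG'⟩ := nonempty_plus_exact_iso G'
  haveI : PreservesFiniteLimits (F' ⋙ G') := comp_preservesFiniteLimits F' G'
  haveI : PreservesFiniteColimits (F' ⋙ G') := comp_preservesFiniteColimits F' G'
  exact ⟨liftPlusIso (Functor.associator _ _ _ ≪≫ Functor.isoWhiskerLeft _ eG ≪≫ (Functor.associator _ _ _).symm ≪≫
    Functor.isoWhiskerRight eF _ ≪≫ Functor.associator _ _ _ ≪≫
    Functor.isoWhiskerLeft _ (mapDerivedComp F G (F' ⋙ G') e ≪≫ (mapDerivedComp F' G' (F' ⋙ G') (Iso.refl _)).symm) ≪≫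
    (Functor.associator _ _ _).symm ≪≫ Functor.isoWhiskerRight eF'.symm _ ≪≫ Functor.associator _ _ _ ≪≫
    Functor.isoWhiskerLeft _ eG'.symm ≪≫ (Functor.associator _ _ _).symm)⟩

theorem nonempty_plus_comp [EnoughInjectives A] [EnoughInjectives B] (F : A ⥤ B) (G : B ⥤ C) (H : A ⥤ C) [F.Additive]
    [PreservesFiniteLimits F] [PreservesFiniteColimits F] [G.Additive] [PreservesFiniteLimits G] [PreservesFiniteColimits G]
    [H.Additive] [PreservesFiniteLimits H] [PreservesFiniteColimits H] (e : F ⋙ G ≅ H) :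
    Nonempty (F.rightDerivedFunctorPlus ⋙ G.rightDerivedFunctorPlus ≅ H.rightDerivedFunctorPlus) := by
  obtain ⟨eF⟩ := nonempty_plus_exact_iso F
  obtain ⟨eG⟩ := nonempty_plus_exact_iso G
  obtain ⟨eH⟩ := nonempty_plus_exact_iso H
  exact ⟨liftPlusIso (Functor.associator _ _ _ ≪≫ Functor.isoWhiskerLeft _ eG ≪≫ (Functor.associator _ _ _).symm ≪≫
    Functor.isoWhiskerRight eF _ ≪≫ Functor.associator _ _ _ ≪≫
    Functor.isoWhiskerLeft _ (mapDerivedComp F G H e) ≪≫ eH.symm)⟩

end Exact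

variable (Λ : Type (u + 1)) [CommRing Λ] {X Y Z : Scheme.{u}}

instance preservesFiniteLimits_pullMod (f : X ⟶ Y) : PreservesFiniteLimits (EtModW.pull Λ f) :=
  EtSixLib.preservesFiniteLimits_pull Λ f

/-- Inverse images compose on `D⁺`. -/
theorem nonempty_pullPlus_comp (f : X ⟶ Y) (g : Y ⟶ Z) (k : X ⟶ Z) (w : f ≫ g = k) :
    Nonempty (EtDl.pullPlus Λ g ⋙ EtDl.pullPlus Λ f ≅ EtDl.pullPlus Λ k) := by
  subst w
  exact nonempty_plus_comp _ _ _ (Adjunction.leftAdjointUniq
    (((EtSix.pullPushModAdj Λ g).comp (EtSix.pullPushModAdj Λ f)).ofNatIsoRight (FixPt.pushComp g f))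
    (EtSix.pullPushModAdj Λ (f ≫ g)))

/-- Direct images compose on `D⁺`. -/
theorem nonempty_pushPlus_comp (f : X ⟶ Y) (g : Y ⟶ Z) (k : X ⟶ Z) (w : f ≫ g = k) :
    Nonempty (EtDl.pushPlus Λ f ⋙ EtDl.pushPlus Λ g ≅ EtDl.pushPlus Λ k) := by
  obtain ⟨af⟩ := Groth.Agent.S4333.result Λ f
  obtain ⟨ag⟩ := Groth.Agent.S4333.result Λ g
  obtain ⟨ak⟩ := Groth.Agent.S4333.result Λ k
  obtain ⟨e⟩ := nonempty_pullPlus_comp Λ f g k w
  exact ⟨Adjunction.rightAdjointUniq ((ag.comp af).ofNatIsoLeft e) ak⟩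

variable {Λ} {n : ℕ} (hn : 0 < n) (hΛ : (n : Λ) = 0)

include hn hΛ

/-- `Rg_!` of a separated etale morphism is extension by zero. -/
theorem nonempty_RshriekPlus_etale {g : X ⟶ Z} [Etale g] [IsSeparated g] [EtShriek.JCont g]
    (c : DEt.Compactification g) : Nonempty (EtDl.RshriekPlus Λ c ≅ EtDl.extZeroPlus Λ g) := by
  haveI := c.isProper
  haveI := c.isOpenImmersion
  haveI : LocallyQuasiFinite (c.j ≫ c.fbar) := by
    rw [c.fac]; exact Unibranch.locallyQuasiFinite_of_etale g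
  haveI := hasRpushMod Λ c.fbar
  let E := EtDl.extZeroMod Λ c.j ⋙ EtModW.push Λ c.fbar
  let RE := RshriekD (Λ := Λ) c
  let φ := extZeroPushModIso Λ c.j c.fbar g c.fac
  let α : E.mapHomotopyCategory (ComplexShape.up ℤ) ⋙ DerivedCategory.Qh ⟶ DerivedCategory.Qh ⋙ RE :=
    Functor.whiskerRight (Functor.mapHomotopyCategoryCompIso (Iso.refl E) (ComplexShape.up ℤ)).inv _ ≫
      Functor.whiskerLeft ((EtDl.extZeroMod Λ c.j).mapHomotopyCategory (ComplexShape.up ℤ)) (unitM Λ c.fbar) ≫
      Functor.whiskerRight (EtDl.extZeroMod Λ c.j).mapDerivedCategoryFactorsh.inv (EtBC.RpushModD Λ c.fbar)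
  have hα : ∀ (I : CochainComplex (EtModW.Mod Λ X) ℤ) (a : ℤ) [I.IsStrictlyGE a],
      IsIso (α.app ((HomotopyCategory.quotient _ (ComplexShape.up ℤ)).obj I)) := fun I a _ => by
    let J := ((EtDl.extZeroMod Λ c.j).mapHomologicalComplex (ComplexShape.up ℤ)).obj I
    haveI : CochainComplex.IsStrictlyGE J a := (CochainComplex.isStrictlyGE_iff J a).2 fun i hi =>
      (EtDl.extZeroMod Λ c.j).map_isZero (CochainComplex.isZero_of_isStrictlyGE I a i hi)
    haveI : IsIso ((unitM Λ c.fbar).app (((EtDl.extZeroMod Λ c.j).mapHomotopyCategory (ComplexShape.up ℤ)).obj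
        ((HomotopyCategory.quotient _ (ComplexShape.up ℤ)).obj I))) :=
      isIso_unitM_of_acyclic c.fbar J a fun i q => by
        haveI := isIso_fgtExtZero Λ c.j (I.X i)
        exact (ShriekProper.isZero_Rpush_extZero_lqf c.j c.fbar _
          (PBCLib.isTorsion_of_killedBy' hn (killedBy_fgt hΛ (I.X i))) q).of_iso
          ((EtCoh.Rpush c.fbar (q + 1)).mapIso (asIso (fgtExtZero Λ c.j (I.X i))).symm)
    simp only [α, NatTrans.comp_app, Functor.whiskerRight_app, Functor.whiskerLeft_app]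
    infer_instance
  obtain ⟨eR⟩ := nonempty_RshriekPlus_iso (Λ := Λ) c
  obtain ⟨eg⟩ := nonempty_plus_iso (EtDl.extZeroMod Λ g) RE
    (Functor.whiskerRight (NatTrans.mapHomotopyCategory φ.inv (ComplexShape.up ℤ)) _ ≫ α) fun I a _ _ => by
      haveI := hα I a
      haveI : IsIso ((NatTrans.mapHomologicalComplex φ.inv (ComplexShape.up ℤ)).app I) :=
        inferInstanceAs (IsIso ((NatIso.mapHomologicalComplex φ.symm (ComplexShape.up ℤ)).hom.app I))
      haveI : IsIso ((NatTrans.mapHomotopyCategory φ.inv (ComplexShape.up ℤ)).app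
          ((HomotopyCategory.quotient (EtModW.Mod Λ X) (ComplexShape.up ℤ)).obj I)) :=
        Functor.map_isIso (HomotopyCategory.quotient _ (ComplexShape.up ℤ))
          ((NatTrans.mapHomologicalComplex φ.inv (ComplexShape.up ℤ)).app I)
      simp only [NatTrans.comp_app, Functor.whiskerRight_app]
      infer_instance
  exact ⟨liftPlusIso (eR ≪≫ eg.symm)⟩

/-- `Rf_!` does not change when passing to a compactification lying over the given one. -/
theorem nonempty_RshriekPlus_dominate {f : X ⟶ Y} (c c₁ : DEt.Compactification f) (h : c.Xbar ⟶ c₁.Xbar)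
    [IsProper h] (e : h ≫ c₁.fbar = c.fbar) (w : c.j ≫ h = c₁.j) :
    Nonempty (EtDl.RshriekPlus Λ c ≅ EtDl.RshriekPlus Λ c₁) := by
  haveI := c.isOpenImmersion
  haveI := c₁.isOpenImmersion
  let d : DEt.Compactification c₁.j :=
    { Xbar := c.Xbar, j := c.j, fbar := h, isOpenImmersion := inferInstance, isProper := inferInstance, fac := w }
  obtain ⟨ed⟩ := nonempty_RshriekPlus_etale hn hΛ d
  obtain ⟨eh⟩ := nonempty_pushPlus_comp Λ h c₁.fbar c.fbar e
  exact ⟨Functor.isoWhiskerLeft (EtDl.extZeroPlus Λ c.j) eh.symm ≪≫ (Functor.associator _ _ _).symm ≪≫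
    Functor.isoWhiskerRight ed _⟩

/-- `Rf_!` does not depend on the compactification. -/
theorem nonempty_RshriekPlus_indep {f : X ⟶ Y} [CompactSpace X] [QuasiSeparatedSpace Y]
    (c c' : DEt.Compactification f) : Nonempty (EtDl.RshriekPlus Λ c ≅ EtDl.RshriekPlus Λ c') := by
  obtain ⟨d, h₁, h₂, p₁, p₂, e₁, e₂, q₁, q₂⟩ := ShriekProper.exists_dominating inferInstance c c'
  haveI := p₁
  haveI := p₂
  obtain ⟨i₁⟩ := nonempty_RshriekPlus_dominate hn hΛ d c h₁ e₁ (q₁.w.trans (Category.id_comp _))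
  obtain ⟨i₂⟩ := nonempty_RshriekPlus_dominate hn hΛ d c' h₂ e₂ (q₂.w.trans (Category.id_comp _))
  exact ⟨i₁.symm ≪≫ i₂⟩

/-- Proper base change on `D⁺`. -/
theorem nonempty_pushPlus_baseChange {S X' S' : Scheme.{u}} (f : X ⟶ S) (g : S' ⟶ S) (f' : X' ⟶ S') (g' : X' ⟶ X)
    (h : IsPullback g' f' f g) [IsProper f] :
    Nonempty (EtDl.pushPlus Λ f ⋙ EtDl.pullPlus Λ g ≅ EtDl.pullPlus Λ g' ⋙ EtDl.pushPlus Λ f') := by
  haveI : IsProper f' := MorphismProperty.of_isPullback h inferInstance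
  haveI := hasRpushMod Λ f
  haveI := hasRpushMod Λ f'
  haveI := hasRpushMod Λ g
  haveI := fun ι : Type (u + 1) => preservesCoproducts_RpushModD hn hΛ f ι
  haveI := fun ι : Type (u + 1) => preservesCoproducts_RpushModD hn hΛ f' ι
  obtain ⟨a, -⟩ := exists_adjMod Λ g
  haveI : ∀ K, IsIso ((bcNat f g f' g' h.w a).app K) := fun K =>
    isIso_bcMapModD f g f' g' h.w hΛ
      (fun F hF q => PBCLib.bcAll_of_proper f g f' g' h F (PBCLib.isTorsion_of_killedBy' hn hF) q) a K
  obtain ⟨ef⟩ := nonempty_plus_iso (EtModW.push Λ f) (EtBC.RpushModD Λ f) (unitM Λ f)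
    fun I m _ hI => isIso_unitM_of_acyclic f I m fun i =>
      haveI := hI i; PBCLib.isAcyclicFor_forget_injective f Λ (I.X i)
  obtain ⟨ef'⟩ := nonempty_plus_iso (EtModW.push Λ f') (EtBC.RpushModD Λ f') (unitM Λ f')
    fun I m _ hI => isIso_unitM_of_acyclic f' I m fun i =>
      haveI := hI i; PBCLib.isAcyclicFor_forget_injective f' Λ (I.X i)
  obtain ⟨eg⟩ := nonempty_plus_exact_iso (EtModW.pull Λ g)
  obtain ⟨eg'⟩ := nonempty_plus_exact_iso (EtModW.pull Λ g')
  exact ⟨liftPlusIso (Functor.associator _ _ _ ≪≫ Functor.isoWhiskerLeft _ eg ≪≫ (Functor.associator _ _ _).symm ≪≫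
    Functor.isoWhiskerRight ef _ ≪≫ Functor.associator _ _ _ ≪≫
    Functor.isoWhiskerLeft _ (NatIso.ofComponents (fun K => asIso ((bcNat f g f' g' h.w a).app K))
      (fun u => (bcNat f g f' g' h.w a).naturality u)) ≪≫
    (Functor.associator _ _ _).symm ≪≫ Functor.isoWhiskerRight eg'.symm _ ≪≫ Functor.associator _ _ _ ≪≫
    Functor.isoWhiskerLeft _ ef'.symm ≪≫ (Functor.associator _ _ _).symm)⟩

/-- **Base change for `Rf_!` on `D⁺`.** -/
theorem nonempty_RshriekPlus_baseChange {S X' S' : Scheme.{u}} [QuasiSeparatedSpace S'] [CompactSpace X']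
    {f : X ⟶ S} {g : S' ⟶ S} {f' : X' ⟶ S'} {g' : X' ⟶ X} (hc : IsPullback g' f' f g)
    (c : DEt.Compactification f) (c' : DEt.Compactification f') :
    Nonempty (EtDl.RshriekPlus Λ c ⋙ EtDl.pullPlus Λ g ≅ EtDl.pullPlus Λ g' ⋙ EtDl.RshriekPlus Λ c') := by
  haveI := c.isProper
  haveI := c.isOpenImmersion
  let P := pullback c.fbar g
  let gb : P ⟶ c.Xbar := pullback.fst c.fbar g
  let fb : P ⟶ S' := pullback.snd c.fbar g
  let j' : X' ⟶ P := pullback.lift (g' ≫ c.j) f' (by rw [Category.assoc, c.fac, hc.w])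
  have hj₁ : j' ≫ gb = g' ≫ c.j := pullback.lift_fst _ _ _
  have hj₂ : j' ≫ fb = f' := pullback.lift_snd _ _ _
  have hs : IsPullback g' (j' ≫ fb) (c.j ≫ c.fbar) g := by
    rw [hj₂, c.fac]
    exact hc
  have hsq : IsPullback j' g' gb c.j :=
    (IsPullback.of_bot hs hj₁.symm (IsPullback.of_hasPullback c.fbar g)).flip
  haveI : IsOpenImmersion j' := MorphismProperty.of_isPullback (P := @IsOpenImmersion) hsq.flip inferInstance
  let d : DEt.Compactification f' :=
    { Xbar := P, j := j', fbar := fb, isOpenImmersion := inferInstance, isProper := inferInstance, fac := hj₂ }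
  haveI := EtJCont.jCont j'
  haveI := EtJCont.jCont c.j
  obtain ⟨i₁⟩ := nonempty_plus_square (EtDl.extZeroMod Λ c.j) (EtModW.pull Λ gb) (EtModW.pull Λ g')
    (EtDl.extZeroMod Λ j') (extZeroPullModIso Λ gb c.j j' g' hsq)
  obtain ⟨i₂⟩ := nonempty_pushPlus_baseChange hn hΛ c.fbar g fb gb (IsPullback.of_hasPullback c.fbar g)
  obtain ⟨i₃⟩ := nonempty_RshriekPlus_indep hn hΛ d c'
  exact ⟨Functor.associator _ _ _ ≪≫ Functor.isoWhiskerLeft _ i₂ ≪≫ (Functor.associator _ _ _).symm ≪≫
    Functor.isoWhiskerRight i₁ _ ≪≫ Functor.associator _ _ _ ≪≫ Functor.isoWhiskerLeft _ i₃⟩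

end Groth.Agent.UnbddLib
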