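import Groth.Agent.UnbddLib.ShriekBC
import Groth.Agent.EtPtsLib.RecollEquiv
import Groth.Agent.KInj.Derived

/-!
# The right adjoint of the direct image along a closed immersion, for sheaves of modules
-/

set_option autoImplicit false
set_option linter.style.haveILetI false
set_option linter.unusedSectionVars false
set_option backward.isDefEq.respectTransparency false
set_option backward.isDefEq.respectTransparency.types false
set_option synthInstance.maxHeartbeats 400000
set_option maxHeartbeats 1000000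

universe u

open CategoryTheory CategoryTheory.Limits AlgebraicGeometry Opposite

attribute [local instance] HasDerivedCategory.standard

noncomputable section

namespace Groth.Agent.UnbddLib

open PBCLib (fgt fgtPull isIso_fgtPull fgtPull_natural homEquiv_fgtPull)

variable (Λ : Type (u + 1)) [CommRing Λ] {Z X U : Scheme.{u}} (i : Z ⟶ X) [IsClosedImmersion i]
  (j : U ⟶ X) [IsOpenImmersion j]

theorem fgtPull_counit {W Y : Scheme.{u}} (g : W ⟶ Y) (A : EtModW.Mod Λ W) :
    fgtPull Λ g ((EtModW.push Λ g).obj A) ≫ (fgt Λ W).map ((EtSix.pullPushModAdj Λ g).counit.app A) =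
      (EtCoh.pullPushAdj g).counit.app ((fgt Λ W).obj A) := by
  apply ((EtCoh.pullPushAdj g).homEquiv _ _).injective
  refine ((EtCoh.pullPushAdj g).homEquiv_naturality_right _ _).trans ?_
  rw [homEquiv_fgtPull]
  refine (((fgt Λ Y).map_comp _ _).symm.trans ((congrArg (fgt Λ Y).map
    ((EtSix.pullPushModAdj Λ g).right_triangle_components A)).trans ((fgt Λ Y).map_id _))).trans ?_
  rw [Adjunction.homEquiv_unit]
  exact ((EtCoh.pullPushAdj g).right_triangle_components ((fgt Λ W).obj A)).symm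

instance isIso_counit_closedImmersion (A : EtModW.Mod Λ Z) :
    IsIso ((EtSix.pullPushModAdj Λ i).counit.app A) := by
  haveI : IsIso ((EtCoh.pullPushAdj i).counit.app ((fgt Λ Z).obj A)) := EtPtsLib.isIso_counit_immersion i _
  haveI := isIso_fgtPull Λ i ((EtModW.push Λ i).obj A)
  haveI : IsIso (fgtPull Λ i ((EtModW.push Λ i).obj A) ≫
      (fgt Λ Z).map ((EtSix.pullPushModAdj Λ i).counit.app A)) := by
    rw [fgtPull_counit]; infer_instance
  haveI : IsIso ((fgt Λ Z).map ((EtSix.pullPushModAdj Λ i).counit.app A)) :=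
    IsIso.of_isIso_comp_left (fgtPull Λ i ((EtModW.push Λ i).obj A)) _
  exact isIso_of_reflects_iso ((EtSix.pullPushModAdj Λ i).counit.app A) (fgt Λ Z)

variable (hij : Set.range j.base = (Set.range i.base)ᶜ)

include hij

theorem isZero_pull_push (B : EtCoh.Ab Z) : IsZero ((EtCoh.pull j).obj ((EtCoh.push i).obj B)) :=
  (EtPtsLib.isZero_iff_ab _).2 fun Ω _ _ ζ => by
    refine IsZero.of_iso ?_ ((EtPtsLib.pullStalkIso j ζ AddCommGrpCat.{u + 1}).app ((EtCoh.push i).obj B))
    refine EtPtsLib.isZero_stalk_push_ab i _ i.isClosedEmbedding.isClosed_range ?_ _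
    have := EtPtsLib.range_compl_mem j ζ
    rw [hij] at this
    exact this

theorem isIso_unit_of_isZero_pull (K : EtCoh.Ab X) (hK : IsZero ((EtCoh.pull j).obj K)) :
    IsIso ((EtCoh.pullPushAdj i).unit.app K) := by
  have key : ∀ (Ω : Type u) [Field Ω] [IsSepClosed Ω] (ξ : Spec (CommRingCat.of Ω) ⟶ X),
      Function.Bijective ((EtCoh.stalk ξ).map ((EtCoh.pullPushAdj i).unit.app K)) := fun Ω _ _ ξ => by
    by_cases h : ξ default ∈ Set.range i
    · obtain ⟨ζ, rfl⟩ := EtPtsLib.exists_comp_eq_closed (j := i) (ξ := ξ) h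
      haveI := EtPtsLib.isIso_stalk_unit_immersion i ζ K
      exact ConcreteCategory.bijective_of_isIso _
    · have hout : IsZero ((EtCoh.stalk ξ).obj K) := by
        obtain ⟨ζ, rfl⟩ := EtPtsLib.exists_comp_eq (j := j) (ξ := ξ) (by rw [hij]; exact h)
        exact ((EtPtsLib.isZero_iff_ab _).1 hK Ω ζ).of_iso
          ((EtPtsLib.pullStalkIso j ζ AddCommGrpCat.{u + 1}).app K).symm
      haveI : IsIso ((EtCoh.stalk ξ).map ((EtCoh.pullPushAdj i).unit.app K)) :=
        isIso_of_source_target_iso_zero _ hout.isoZero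
          (EtPtsLib.isZero_stalk_push_ab i ξ i.isClosedEmbedding.isClosed_range h _).isoZero
      exact ConcreteCategory.bijective_of_isIso _
  haveI : Mono ((EtCoh.pullPushAdj i).unit.app K) := (EtPtsLib.mono_iff_ab _).2 fun Ω _ _ ξ => (key Ω ξ).1
  haveI : Epi ((EtCoh.pullPushAdj i).unit.app K) := (EtPtsLib.epi_iff_ab _).2 fun Ω _ _ ξ => (key Ω ξ).2
  exact isIso_of_mono_of_epi _

theorem isZero_pullMod_push (A : EtModW.Mod Λ Z) : IsZero ((EtModW.pull Λ j).obj ((EtModW.push Λ i).obj A)) := by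
  haveI := isIso_fgtPull Λ j ((EtModW.push Λ i).obj A)
  rw [IsZero.iff_id_eq_zero]
  refine (fgt Λ U).map_injective ?_
  exact ((isZero_pull_push i j hij ((fgt Λ Z).obj A)).of_iso
    (asIso (fgtPull Λ j ((EtModW.push Λ i).obj A))).symm).eq_of_src _ _

omit hij in
theorem isZero_pullMod_secSupp (G : EtModW.Mod Λ X) :
    IsZero ((EtModW.pull Λ j).obj ((EtDl.secSuppMod Λ j).obj G)) := by
  let u := (EtDl.pullPushModAdj Λ j).unit.app G
  haveI : IsSplitMono ((EtModW.pull Λ j).map u) :=
    IsSplitMono.mk' ⟨(EtDl.pullPushModAdj Λ j).counit.app ((EtModW.pull Λ j).obj G),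
      (EtDl.pullPushModAdj Λ j).left_triangle_components G⟩
  let ι₀ : (EtDl.secSuppMod Λ j).obj G ⟶ G := kernel.ι (EtDl.unitMod Λ j G)
  haveI : Mono ι₀ := inferInstanceAs (Mono (kernel.ι (EtDl.unitMod Λ j G)))
  haveI : PreservesLimitsOfShape WalkingCospan (EtModW.pull Λ j) :=
    PreservesFiniteLimits.preservesFiniteLimits _
  haveI : (EtModW.pull Λ j).PreservesMonomorphisms := preservesMonomorphisms_of_preservesLimitsOfShape _
  haveI : Mono ((EtModW.pull Λ j).map ι₀) := (EtModW.pull Λ j).map_mono ι₀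
  haveI : Mono ((EtModW.pull Λ j).map u) := IsSplitMono.mono _
  have h0 : (EtModW.pull Λ j).map ι₀ = 0 := by
    rw [← cancel_mono ((EtModW.pull Λ j).map u), zero_comp, ← Functor.map_comp]
    exact (congrArg (EtModW.pull Λ j).map (kernel.condition (EtDl.unitMod Λ j G))).trans (Functor.map_zero _ _ _)
  exact IsZero.of_mono_eq_zero _ h0

theorem isIso_unit_secSupp (G : EtModW.Mod Λ X) :
    IsIso ((EtSix.pullPushModAdj Λ i).unit.app ((EtDl.secSuppMod Λ j).obj G)) := by
  let K := (EtDl.secSuppMod Λ j).obj G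
  haveI := isIso_fgtPull Λ j K
  have hK : IsZero ((EtCoh.pull j).obj ((fgt Λ X).obj K)) :=
    ((fgt Λ U).map_isZero (isZero_pullMod_secSupp Λ j G)).of_iso (asIso (fgtPull Λ j K))
  haveI := isIso_unit_of_isZero_pull i j hij _ hK
  haveI := isIso_fgtPull Λ i K
  haveI : IsIso ((fgt Λ X).map ((EtSix.pullPushModAdj Λ i).unit.app K)) := by
    rw [← homEquiv_fgtPull Λ i K, Adjunction.homEquiv_unit]
    infer_instance
  exact isIso_of_reflects_iso _ (fgt Λ X)

/-- The transpose defining `i_* ⊣ i^* Γ_Z`. -/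
def suppTranspose (A : EtModW.Mod Λ Z) (G : EtModW.Mod Λ X)
    (ψ : A ⟶ (EtDl.secSuppMod Λ j ⋙ EtModW.pull Λ i).obj G) : (EtModW.push Λ i).obj A ⟶ G :=
  haveI := isIso_unit_secSupp Λ i j hij G
  (EtModW.push Λ i).map ψ ≫ inv ((EtSix.pullPushModAdj Λ i).unit.app ((EtDl.secSuppMod Λ j).obj G)) ≫ kernel.ι _

theorem bijective_suppTranspose (A : EtModW.Mod Λ Z) (G : EtModW.Mod Λ X) :
    Function.Bijective (suppTranspose Λ i j hij A G) := by
  haveI := isIso_unit_secSupp Λ i j hij G
  haveI : IsIso (EtSix.pullPushModAdj Λ i).counit := NatIso.isIso_of_isIso_app _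
  let ff := (EtSix.pullPushModAdj Λ i).fullyFaithfulROfIsIsoCounit
  refine ⟨fun ψ ψ' h => ?_, fun φ => ?_⟩
  · apply ff.map_injective
    simp only [suppTranspose] at h
    exact (cancel_mono (inv ((EtSix.pullPushModAdj Λ i).unit.app ((EtDl.secSuppMod Λ j).obj G)) ≫ kernel.ι _)).1 h
  · have w : φ ≫ EtDl.unitMod Λ j G = 0 := by
      refine ((EtDl.pullPushModAdj Λ j).unit.naturality φ).trans ?_
      have : (EtModW.pull Λ j).map φ = 0 := (isZero_pullMod_push Λ i j hij A).eq_of_src _ _
      change _ ≫ (EtModW.push Λ j).map ((EtModW.pull Λ j).map φ) = 0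
      rw [this, Functor.map_zero, comp_zero]
    refine ⟨ff.preimage (kernel.lift _ φ w ≫ (EtSix.pullPushModAdj Λ i).unit.app ((EtDl.secSuppMod Λ j).obj G)), ?_⟩
    simp only [suppTranspose]
    refine (congrArg (· ≫ _) (ff.map_preimage _)).trans ?_
    refine (Category.assoc _ _ _).trans ((congrArg (kernel.lift _ φ w ≫ ·) (IsIso.hom_inv_id_assoc _ _)).trans ?_)
    exact kernel.lift_ι _ _ _

/-- **`i_* ⊣ i^* Γ_Z` for sheaves of modules.** -/
def pushSuppAdj : EtModW.push Λ i ⊣ EtDl.secSuppMod Λ j ⋙ EtModW.pull Λ i :=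
  Adjunction.mkOfHomEquiv
    { homEquiv := fun A G => (Equiv.ofBijective _ (bijective_suppTranspose Λ i j hij A G)).symm
      homEquiv_naturality_left_symm := fun {A A' G} a ψ => by
        simp only [Equiv.symm_symm]
        show suppTranspose Λ i j hij A G (a ≫ ψ) = (EtModW.push Λ i).map a ≫ suppTranspose Λ i j hij A' G ψ
        simp only [suppTranspose, Functor.map_comp, Category.assoc]
      homEquiv_naturality_right := fun {A G G'} φ g => by
        apply (bijective_suppTranspose Λ i j hij A G').1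
        refine ((Equiv.ofBijective _ (bijective_suppTranspose Λ i j hij A G')).apply_symm_apply _).trans ?_
        set ψ := (Equiv.ofBijective _ (bijective_suppTranspose Λ i j hij A G)).symm φ with hψ
        have hφ : φ = suppTranspose Λ i j hij A G ψ :=
          ((Equiv.ofBijective _ (bijective_suppTranspose Λ i j hij A G)).apply_symm_apply φ).symm
        rw [hφ]
        haveI := isIso_unit_secSupp Λ i j hij G
        haveI := isIso_unit_secSupp Λ i j hij G'
        let Γg := (EtDl.secSuppMod Λ j).map g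
        have hu : inv ((EtSix.pullPushModAdj Λ i).unit.app ((EtDl.secSuppMod Λ j).obj G)) ≫ Γg =
            (EtModW.push Λ i).map ((EtModW.pull Λ i).map Γg) ≫
              inv ((EtSix.pullPushModAdj Λ i).unit.app ((EtDl.secSuppMod Λ j).obj G')) := by
          rw [IsIso.inv_comp_eq, ← Category.assoc, IsIso.eq_comp_inv]
          exact (EtSix.pullPushModAdj Λ i).unit.naturality Γg
        have hk : Γg ≫ kernel.ι (EtDl.unitMod Λ j G') = kernel.ι (EtDl.unitMod Λ j G) ≫ g := kernel.lift_ι _ _ _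
        simp only [suppTranspose, Functor.comp_map, Functor.map_comp, Category.assoc]
        refine congrArg ((EtModW.push Λ i).map ψ ≫ ·) ?_
        exact (congrArg (inv _ ≫ ·) hk.symm).trans ((Category.assoc _ _ _).symm.trans
          ((congrArg (· ≫ kernel.ι _) hu).trans (Category.assoc _ _ _))) }

/-- The derived adjunction on `D⁺`. -/
theorem nonempty_pushPlus_adj_secSupp :
    Nonempty (EtDl.pushPlus Λ i ⊣ EtDl.secSuppPlus Λ j ⋙ EtDl.pullPlus Λ i) := by
  let adj := pushSuppAdj Λ i j hij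
  haveI : PreservesFiniteLimits (EtModW.push Λ i) :=
    (EtSix.pullPushModAdj Λ i).rightAdjoint_preservesLimits.{0, 0}.preservesFiniteLimits
  haveI : PreservesColimitsOfSize.{0, 0} (EtModW.push Λ i) := adj.leftAdjoint_preservesColimits
  haveI : PreservesFiniteColimits (EtModW.push Λ i) := PreservesColimitsOfSize.preservesFiniteColimits _
  obtain ⟨a⟩ := Groth.Agent.S14623.result adj
  let G := (EtDl.secSuppMod Λ j).mapHomotopyCategory (ComplexShape.up ℤ) ⋙
    DerivedCategory.Qh (C := EtModW.Mod Λ X)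
  let hres := KInj.hres_of_isGrothendieckAbelian (EtModW.Mod Λ X)
  haveI := KInj.hasRightDerivedFunctor hres G
  let RΓ := G.totalRightDerived DerivedCategory.Qh (HomotopyCategory.quasiIso _ (ComplexShape.up ℤ))
  let η := G.totalRightDerivedUnit DerivedCategory.Qh (HomotopyCategory.quasiIso _ (ComplexShape.up ℤ))
  have hη : ∀ (I : CochainComplex (EtModW.Mod Λ X) ℤ) (m : ℤ) [I.IsStrictlyGE m], (∀ q, Injective (I.X q)) →
      IsIso (η.app ((HomotopyCategory.quotient _ (ComplexShape.up ℤ)).obj I)) := fun I m _ hI => by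
    haveI := hI
    haveI := CochainComplex.isKInjective_of_injective I m
    exact KInj.isIso_app_of_isKInjective hres G RΓ η I
  obtain ⟨e₁⟩ := nonempty_plus_iso (EtDl.secSuppMod Λ j) RΓ η hη
  obtain ⟨e₂⟩ := nonempty_plus_exact_iso (EtModW.pull Λ i)
  let F := EtDl.secSuppMod Λ j ⋙ EtModW.pull Λ i
  let α : F.mapHomotopyCategory (ComplexShape.up ℤ) ⋙ DerivedCategory.Qh ⟶
      DerivedCategory.Qh ⋙ (RΓ ⋙ (EtModW.pull Λ i).mapDerivedCategory) :=
    Functor.whiskerRight (Functor.mapHomotopyCategoryCompIso (Iso.refl F) (ComplexShape.up ℤ)).inv _ ≫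
      Functor.whiskerLeft ((EtDl.secSuppMod Λ j).mapHomotopyCategory (ComplexShape.up ℤ))
        (EtModW.pull Λ i).mapDerivedCategoryFactorsh.inv ≫
      Functor.whiskerRight η (EtModW.pull Λ i).mapDerivedCategory
  obtain ⟨e⟩ := nonempty_plus_iso F (RΓ ⋙ (EtModW.pull Λ i).mapDerivedCategory) α fun I m _ hI => by
    haveI := hη I m hI
    simp only [α, NatTrans.comp_app, Functor.whiskerRight_app, Functor.whiskerLeft_app]
    infer_instance
  exact ⟨a.ofNatIsoRight (liftPlusIso (e ≪≫ (Functor.associator _ _ _).symm ≪≫ Functor.isoWhiskerRight e₁.symm _ ≪≫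
    Functor.associator _ _ _ ≪≫ Functor.isoWhiskerLeft _ e₂.symm ≪≫ (Functor.associator _ _ _).symm))⟩

/-- `Rf_!` of a closed immersion is its direct image. -/
theorem nonempty_RshriekPlus_closedImmersion {n : ℕ} (hn : 0 < n) (hΛ : (n : Λ) = 0) [CompactSpace Z]
    [QuasiSeparatedSpace X] (c : DEt.Compactification i) : Nonempty (EtDl.RshriekPlus Λ c ≅ EtDl.pushPlus Λ i) := by
  let d : DEt.Compactification i :=
    { Xbar := Z, j := 𝟙 Z, fbar := i, isOpenImmersion := inferInstance, isProper := inferInstance,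
      fac := Category.id_comp i }
  haveI := EtJCont.jCont (𝟙 Z)
  let ρ : EtShriek.compEtale (𝟙 Z) ≅ 𝟭 Z.Etale :=
    NatIso.ofComponents (fun W => MorphismProperty.Over.isoMk (Iso.refl _) (by
      refine (Category.id_comp _).trans ?_
      exact (Category.comp_id W.hom).symm))
      (fun {W W'} g => MorphismProperty.Over.Hom.ext ((Category.comp_id _).trans (Category.id_comp _).symm))
  let er : EtDl.restrMod Λ (𝟙 Z) ≅ 𝟭 (EtModW.Mod Λ Z) :=
    ((fullyFaithfulSheafToPresheaf _ _).whiskeringRight _).preimageIso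
      (NatIso.ofComponents (fun F => Functor.isoWhiskerRight (NatIso.op ρ.symm) F.obj)
        (fun {F G} a => by
          ext W s
          exact (NatTrans.naturality_apply a.hom ((NatIso.op ρ.symm).hom.app W) s).symm))
  let e0 : EtDl.extZeroMod Λ (𝟙 Z) ≅ 𝟭 (EtModW.Mod Λ Z) :=
    Adjunction.leftAdjointUniq ((EtDl.extZeroModAdj Λ (𝟙 Z)).ofNatIsoRight er) Adjunction.id
  haveI : PreservesFiniteLimits (EtModW.push Λ i) :=
    (EtSix.pullPushModAdj Λ i).rightAdjoint_preservesLimits.{0, 0}.preservesFiniteLimits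
  haveI : PreservesColimitsOfSize.{0, 0} (EtModW.push Λ i) :=
    (pushSuppAdj Λ i j hij).leftAdjoint_preservesColimits
  haveI : PreservesFiniteColimits (EtModW.push Λ i) := PreservesColimitsOfSize.preservesFiniteColimits _
  obtain ⟨e⟩ := nonempty_RshriekPlus_indep hn hΛ c d
  obtain ⟨e'⟩ := nonempty_plus_comp (EtDl.extZeroMod Λ (𝟙 Z)) (EtModW.push Λ i) (EtModW.push Λ i)
    (Functor.isoWhiskerRight e0 _ ≪≫ Functor.leftUnitor _)
  exact ⟨e ≪≫ e'⟩

end Groth.Agent.UnbddLib
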