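import Groth.Agent.UnbddLib.ConsGen
import Groth.Prelude.Def_EtModD2
import Mathlib.Algebra.Homology.SingleHomology
import Mathlib.Algebra.Homology.DerivedCategory.HomologySequence

/-!
# Maps from finite sums of `j_! Λ` onto constructible cohomology sheaves
-/

set_option autoImplicit false
set_option linter.style.haveILetI false
set_option backward.isDefEq.respectTransparency false
set_option backward.isDefEq.respectTransparency.types false
set_option maxHeartbeats 1000000
set_option synthInstance.maxHeartbeats 200000

universe v u

open CategoryTheory CategoryTheory.Limits AlgebraicGeometry HomologicalComplex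

attribute [local instance] HasDerivedCategory.standard

noncomputable section

namespace Groth.Agent.UnbddLib

theorem homologyMap_mkHomFromSingle {C : Type u} [Category.{v} C] [Abelian C] (K : CochainComplex C ℤ) (b : ℤ) (P : C)
    (φ : P ⟶ K.cycles b) :
    HomologicalComplex.homologyMap (HomologicalComplex.mkHomFromSingle (K := K) (j := b) (φ ≫ K.iCycles b)
        (fun k _ => by simp)) b =
      (singleObjHomologySelfIso (ComplexShape.up ℤ) b P).hom ≫ φ ≫ K.homologyπ b := by
  rw [← cancel_epi (((single C (ComplexShape.up ℤ) b).obj P).homologyπ b), homologyπ_naturality,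
    homologyπ_singleObjHomologySelfIso_hom_assoc, ← Category.assoc]
  congr 1
  rw [← cancel_mono (K.iCycles b)]
  simp [singleObjCyclesSelfIso]

theorem exists_single_to_epi_homology {Λ : Type (u + 1)} [CommRing Λ] [IsNoetherianRing Λ] {X : Scheme.{u}}
    [CompactSpace X] (K : EtModD.D Λ X) (b : ℤ) (hK : EtModW.IsConstructible Λ (EtModD.HD K b)) :
    ∃ (m : ℕ) (V : Fin m → X.Etale) (_ : ∀ i, IsAffine (V i).left)
      (φ : (DerivedCategory.singleFunctor (EtModW.Mod Λ X) b).obj (sumObj Λ V) ⟶ K),
      Epi ((DerivedCategory.homologyFunctor (EtModW.Mod Λ X) b).map φ) := by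
  let C := DerivedCategory.Q.objPreimage K
  let eC : DerivedCategory.Q.obj C ≅ K := DerivedCategory.Q.objObjPreimageIso K
  let eH : C.homology b ≅ EtModD.HD K b := ((DerivedCategory.homologyFunctorFactors (EtModW.Mod Λ X) b).app C).symm ≪≫
    (DerivedCategory.homologyFunctor _ b).mapIso eC
  obtain ⟨m, V, hV, φ, hφ⟩ := exists_sum_extZero_epi (C.homologyπ b)
    (EtConsLib.isConstructible_of_iso' eH.symm hK)
  let f := HomologicalComplex.mkHomFromSingle (K := C) (j := b) (φ ≫ C.iCycles b) (fun k _ => by simp)
  haveI : Epi (HomologicalComplex.homologyMap f b) := by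
    rw [homologyMap_mkHomFromSingle]
    infer_instance
  haveI : Epi ((DerivedCategory.homologyFunctor (EtModW.Mod Λ X) b).map (DerivedCategory.Q.map f)) :=
    ((MorphismProperty.epimorphisms _).arrow_mk_iso_iff
      (Arrow.isoMk ((DerivedCategory.homologyFunctorFactors _ b).app _)
        ((DerivedCategory.homologyFunctorFactors _ b).app _)
        ((DerivedCategory.homologyFunctorFactors _ b).hom.naturality f).symm)).2 ‹_›
  refine ⟨m, V, hV, ((DerivedCategory.singleFunctorIsoCompQ _ b).app (sumObj Λ V)).hom ≫
    DerivedCategory.Q.map f ≫ eC.hom, ?_⟩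
  rw [Functor.map_comp, Functor.map_comp]
  infer_instance

end Groth.Agent.UnbddLib
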