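import Mathlib.Algebra.Homology.DerivedCategory.ExactFunctor
import Mathlib.Algebra.Homology.Embedding.CochainComplex
import Mathlib.Algebra.Homology.DerivedCategory.ShortExact
import Mathlib.Algebra.Homology.HomologicalComplexLimits
import Mathlib.Algebra.Homology.HomologicalComplexAbelian
import Mathlib.Algebra.BigOperators.Intervals

/-!
# A complex is the telescope of its stupid truncations
-/

set_option autoImplicit false
set_option linter.style.haveILetI false
set_option backward.isDefEq.respectTransparency false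
set_option backward.isDefEq.respectTransparency.types false

universe t v u

open CategoryTheory CategoryTheory.Limits

noncomputable section

namespace Groth.Agent.UnbddLib

variable {A : Type u} [Category.{v} A] [Abelian A]

section Cut

variable (K : CochainComplex A ℤ)

/-- The part of `K` in degrees `≥ m`, on objects. -/
def cutX (m i : ℤ) : A := ∐ fun _ : PLift (m ≤ i) => K.X i

/-- The inclusion of a degree `≥ m`. -/
def cutι (m i : ℤ) (h : m ≤ i) : K.X i ⟶ cutX K m i := Sigma.ι (fun _ : PLift (m ≤ i) => K.X i) ⟨h⟩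

theorem cutX_ext {m i : ℤ} {T : A} {f g : cutX K m i ⟶ T}
    (h : ∀ hm : m ≤ i, cutι K m i hm ≫ f = cutι K m i hm ≫ g) : f = g :=
  Sigma.hom_ext _ _ fun p => h p.down

/-- Morphisms out of `cutX`. -/
def cutDesc {m i : ℤ} {T : A} (φ : m ≤ i → (K.X i ⟶ T)) : cutX K m i ⟶ T := Sigma.desc fun p => φ p.down

@[reassoc (attr := simp)]
theorem cutι_desc {m i : ℤ} {T : A} (φ : m ≤ i → (K.X i ⟶ T)) (h : m ≤ i) :
    cutι K m i h ≫ cutDesc K φ = φ h := Sigma.ι_desc _ _

theorem isZero_cutX {m i : ℤ} (h : i < m) : IsZero (cutX K m i) := by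
  rw [IsZero.iff_id_eq_zero]
  exact cutX_ext K fun hm => absurd hm (not_le.2 h)

/-- The stupid truncation in degrees `≥ m`. -/
def cut (m : ℤ) : CochainComplex A ℤ :=
  CochainComplex.of (cutX K m)
    (fun i => cutDesc K fun hm => K.d i (i + 1) ≫ cutι K m (i + 1) (by omega))
    (fun i => cutX_ext K fun hm => by simp)

theorem cut_d (m i : ℤ) (hm : m ≤ i) :
    cutι K m i hm ≫ (cut K m).d i (i + 1) = K.d i (i + 1) ≫ cutι K m (i + 1) (by omega) := by
  refine (congrArg (cutι K m i hm ≫ ·) ((by simp [cut]) :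
    (cut K m).d i (i + 1) = cutDesc K fun hm => K.d i (i + 1) ≫ cutι K m (i + 1) (by omega))).trans ?_
  exact cutι_desc K _ hm

instance isStrictlyGE_cut (m : ℤ) : (cut K m).IsStrictlyGE m :=
  (CochainComplex.isStrictlyGE_iff _ m).2 fun _ hi => isZero_cutX K hi

/-- The inclusion of the stupid truncation. -/
def cutIncl (m : ℤ) : cut K m ⟶ K where
  f i := cutDesc K fun _ => 𝟙 (K.X i)
  comm' i j h := by
    obtain rfl : i + 1 = j := h
    refine cutX_ext K fun hm => ?_
    rw [← Category.assoc, ← Category.assoc, cutι_desc, cut_d, Category.id_comp, Category.assoc, cutι_desc,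
      Category.comp_id]

/-- The transition between stupid truncations. -/
def cutMap {m m' : ℤ} (h : m' ≤ m) : cut K m ⟶ cut K m' where
  f i := cutDesc K fun hm => cutι K m' i (h.trans hm)
  comm' i j hij := by
    obtain rfl : i + 1 = j := hij
    refine cutX_ext K fun hm => ?_
    rw [← Category.assoc, ← Category.assoc, cutι_desc, cut_d, cut_d, Category.assoc, cutι_desc]

theorem cutMap_incl {m m' : ℤ} (h : m' ≤ m) : cutMap K h ≫ cutIncl K m' = cutIncl K m := by
  refine HomologicalComplex.hom_ext _ _ fun i => cutX_ext K fun hm => ?_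
  simp [cutMap, cutIncl]

end Cut

section Telescope

variable (K : CochainComplex A ℤ) [HasCoproductsOfShape (ULift.{t} ℕ) A]

/-- The family of stupid truncations. -/
abbrev cuts (n : ULift.{t} ℕ) : CochainComplex A ℤ := cut K (-(n.down : ℤ))

/-- The direct sum of the stupid truncations. -/
abbrev tsum : CochainComplex A ℤ := ∐ cuts.{t} K

/-- One minus the shift. -/
def telA : tsum.{t} K ⟶ tsum.{t} K :=
  Sigma.desc fun n => Sigma.ι (cuts.{t} K) n -
    cutMap K (m' := -((n.down + 1 : ℕ) : ℤ)) (by simp) ≫ Sigma.ι (cuts.{t} K) ⟨n.down + 1⟩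

/-- The map to the complex. -/
def telP : tsum.{t} K ⟶ K := Sigma.desc fun n => cutIncl K (-(n.down : ℤ))

theorem telA_telP : telA.{t} K ≫ telP.{t} K = 0 := by
  refine Sigma.hom_ext _ _ fun n => ?_
  simp [telA, telP, Preadditive.sub_comp, cutMap_incl]

/-- The telescope. -/
def tel : ShortComplex (CochainComplex A ℤ) := ShortComplex.mk _ _ (telA_telP.{t} K)

variable (i : ℤ)

/-- The `n`-th copy of `K.X i` in the direct sum, zero if `i` is not in range. -/
def tι (n : ℕ) : K.X i ⟶ (tsum.{t} K).X i :=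
  if h : -(n : ℤ) ≤ i then cutι K _ i h ≫ (Sigma.ι (cuts.{t} K) ⟨n⟩).f i else 0

theorem tι_of_le {n : ℕ} (h : -(n : ℤ) ≤ i) :
    tι.{t} K i n = cutι K _ i h ≫ (Sigma.ι (cuts.{t} K) ⟨n⟩).f i := dif_pos h

/-- The cofan in a single degree. -/
def tsumIsColimit :
    IsColimit (Cofan.mk ((tsum.{t} K).X i) fun n => (Sigma.ι (cuts.{t} K) n).f i) :=
  isColimitCofanMkObjOfIsColimit (HomologicalComplex.eval A (ComplexShape.up ℤ) i) _ _
    (coproductIsCoproduct (cuts.{t} K))

theorem tsum_ext {T : A} {f g : (tsum.{t} K).X i ⟶ T}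
    (h : ∀ n : ℕ, -(n : ℤ) ≤ i → tι.{t} K i n ≫ f = tι.{t} K i n ≫ g) : f = g :=
  Cofan.IsColimit.hom_ext (tsumIsColimit K i) _ _ fun n => cutX_ext K fun hm => by
    have := h n.down hm
    rw [tι_of_le K i hm, Category.assoc, Category.assoc] at this
    exact this

theorem tι_telA {n : ℕ} (h : -(n : ℤ) ≤ i) :
    tι.{t} K i n ≫ (telA.{t} K).f i = tι K i n - tι K i (n + 1) := by
  have h' : -((n + 1 : ℕ) : ℤ) ≤ i := by omega
  rw [tι_of_le K i h, tι_of_le K i h', Category.assoc, ← HomologicalComplex.comp_f, telA, Sigma.ι_desc,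
    HomologicalComplex.sub_f_apply, HomologicalComplex.comp_f, Preadditive.comp_sub]
  refine congrArg (_ - ·) ?_
  simp [cutMap]

theorem tι_telP {n : ℕ} (h : -(n : ℤ) ≤ i) : tι.{t} K i n ≫ (telP.{t} K).f i = 𝟙 (K.X i) := by
  rw [tι_of_le K i h, Category.assoc, ← HomologicalComplex.comp_f, telP, Sigma.ι_desc]
  simp [cutIncl]

/-- The telescope splits degreewise. -/
def telSplitting : ((tel.{t} K).map (HomologicalComplex.eval A (ComplexShape.up ℤ) i)).Splitting where
  r := Cofan.IsColimit.desc (tsumIsColimit K i) fun n =>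
    cutDesc K fun _ => -∑ j ∈ Finset.Ico (-i).toNat n.down, tι.{t} K i j
  s := tι.{t} K i (-i).toNat
  f_r := by
    refine tsum_ext K i fun n hn => ?_
    have hd : ∀ k : ℕ, ∀ hk : -(k : ℤ) ≤ i, tι.{t} K i k ≫ Cofan.IsColimit.desc (tsumIsColimit K i) (fun n =>
        cutDesc K fun _ => -∑ j ∈ Finset.Ico (-i).toNat n.down, tι.{t} K i j) =
        -∑ j ∈ Finset.Ico (-i).toNat k, tι.{t} K i j := fun k hk => by
      rw [tι_of_le K i hk, Category.assoc]
      exact (congrArg (_ ≫ ·) (Cofan.IsColimit.fac (tsumIsColimit K i) _ ⟨k⟩)).trans (cutι_desc K _ hk)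
    show tι K i n ≫ (telA K).f i ≫ _ = tι K i n ≫ 𝟙 ((tsum K).X i)
    rw [← Category.assoc, tι_telA K i hn, Preadditive.sub_comp, hd n hn, hd (n + 1) (by omega),
      Finset.sum_Ico_succ_top (by omega)]
    simp
  s_g := tι_telP K i (by omega)
  id := by
    refine tsum_ext K i fun n hn => ?_
    have h0 : (-i).toNat ≤ n := by omega
    let r : (tsum.{t} K).X i ⟶ (tsum.{t} K).X i := Cofan.IsColimit.desc (tsumIsColimit K i) fun n =>
      cutDesc K fun _ => -∑ j ∈ Finset.Ico (-i).toNat n.down, tι.{t} K i j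
    show tι K i n ≫ (r ≫ (telA K).f i + (telP K).f i ≫ tι K i (-i).toNat) = tι K i n ≫ 𝟙 ((tsum.{t} K).X i)
    rw [Preadditive.comp_add, ← Category.assoc, ← Category.assoc, tι_telP K i hn, Category.id_comp,
      Category.comp_id]
    have : tι K i n ≫ r = -∑ j ∈ Finset.Ico (-i).toNat n, tι.{t} K i j := by
      rw [tι_of_le K i hn, Category.assoc]
      unfold r
      exact (congrArg (_ ≫ ·) (Cofan.IsColimit.fac (tsumIsColimit K i) _ ⟨n⟩)).trans (cutι_desc K _ hn)
    rw [this, Preadditive.neg_comp, Preadditive.sum_comp,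
      Finset.sum_congr rfl fun j hj => tι_telA K i (n := j) (by have := (Finset.mem_Ico.1 hj).1; omega)]
    rw [Finset.sum_Ico_eq_sum_range]
    have := Finset.sum_range_sub' (fun k => tι.{t} K i ((-i).toNat + k)) (n - (-i).toNat)
    simp only [← add_assoc] at this
    rw [this, Nat.add_sub_cancel' h0]
    simp

theorem tel_shortExact : (tel.{t} K).ShortExact :=
  HomologicalComplex.shortExact_of_degreewise_shortExact _ fun i => (telSplitting K i).shortExact

end Telescope

end Groth.Agent.UnbddLib
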