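import Groth.Agent.UnbddLib.LiftBase
import Groth.Agent.ShriekProper.Model
import Groth.Agent.S0727

/-!
# Natural isomorphisms of sheaves of modules from isomorphisms of the underlying abelian sheaves
-/

set_option autoImplicit false
set_option linter.style.haveILetI false
set_option linter.unusedSectionVars false
set_option backward.isDefEq.respectTransparency false
set_option backward.isDefEq.respectTransparency.types false
set_option synthInstance.maxHeartbeats 200000
set_option maxHeartbeats 1000000

universe v u

open CategoryTheory CategoryTheory.Limits AlgebraicGeometry Opposite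

noncomputable section

namespace Groth.Agent.UnbddLib

open PBCLib (fgt fgtPull isIso_fgtPull fgtPull_natural)

variable (Λ : Type (u + 1)) [CommRing Λ] {X Y : Scheme.{u}}

/-- Extension by zero followed by a proper direct image with etale composite. -/
def extZeroPushModIso (j : X ⟶ Y) [IsOpenImmersion j] [EtShriek.JCont j] {Z : Scheme.{u}} (h : Y ⟶ Z)
    [IsProper h] (g : X ⟶ Z) [Etale g] [IsSeparated g] [EtShriek.JCont g] (w : j ≫ h = g) :
    EtDl.extZeroMod Λ j ⋙ EtModW.push Λ h ≅ EtDl.extZeroMod Λ g :=
  haveI : LocallyQuasiFinite g := Unibranch.locallyQuasiFinite_of_etale g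
  haveI := ShriekLib.isIso_extZeroToLowerShriek g
  liftIso (Functor.isoWhiskerRight (fgtExtZeroIso Λ j).symm (EtCoh.push h) ≪≫
    Functor.isoWhiskerLeft (fgt Λ X) (ShriekProper.extZeroPushIso j h g w ≪≫
      (asIso (ShriekLib.extZeroToLowerShriek g)).symm) ≪≫ fgtExtZeroIso Λ g)

end Groth.Agent.UnbddLib
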