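import Groth.Agent.UnbddLib.Telescope
import Groth.Agent.BCDLib.Derived
import Groth.Agent.PBCLib.ModComplex
import Groth.Prelude.Def_W4c6etmotetsheavesDMod
import Mathlib.CategoryTheory.Triangulated.Adjunction

/-!
# Derived direct images of sheaves of modules as triangulated functors
-/

set_option autoImplicit false
set_option linter.style.haveILetI false
set_option linter.unusedSectionVars false
set_option backward.isDefEq.respectTransparency false
set_option backward.isDefEq.respectTransparency.types false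
set_option maxHeartbeats 1000000
set_option synthInstance.maxHeartbeats 400000

universe u

open CategoryTheory CategoryTheory.Limits AlgebraicGeometry Groth.Agent.KInj

attribute [local instance] HasDerivedCategory.standard

noncomputable section

namespace Groth.Agent.UnbddLib

variable (Λ : Type (u + 1)) [CommRing Λ]

theorem hresMod (X : Scheme.{u}) (K : CochainComplex (EtModW.Mod Λ X) ℤ) :
    ∃ (I : CochainComplex (EtModW.Mod Λ X) ℤ) (f : K ⟶ I), I.IsKInjective ∧ QuasiIso f := by
  haveI : IsGrothendieckAbelian.{u + 1} (EtModW.Mod Λ X) := inferInstance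
  exact hres_of_isGrothendieckAbelian (EtModW.Mod Λ X) K

theorem hasRpushMod {X Y : Scheme.{u}} (f : X ⟶ Y) : EtBC.HasRpushMod Λ f :=
  hasRightDerivedFunctor (hresMod Λ X) _

instance additive_pullMod {X Y : Scheme.{u}} (f : X ⟶ Y) : (EtModW.pull Λ f).Additive :=
  (EtSix.pullPushModAdj Λ f).left_adjoint_additive

instance additive_pushMod {X Y : Scheme.{u}} (f : X ⟶ Y) : (EtModW.push Λ f).Additive :=
  (EtSix.pullPushModAdj Λ f).right_adjoint_additive

/-- The unit of `Rf_*`. -/
abbrev unitM {X Y : Scheme.{u}} (f : X ⟶ Y) [EtBC.HasRpushMod Λ f] :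
    EtBC.pushModKh Λ f ⟶ DerivedCategory.Qh ⋙ EtBC.RpushModD Λ f :=
  (EtBC.pushModKh Λ f).totalRightDerivedUnit DerivedCategory.Qh
    (HomotopyCategory.quasiIso (EtModW.Mod Λ X) (ComplexShape.up ℤ))

theorem isIso_unitM {X Y : Scheme.{u}} (f : X ⟶ Y) [EtBC.HasRpushMod Λ f]
    (I : CochainComplex (EtModW.Mod Λ X) ℤ) [I.IsKInjective] :
    IsIso ((unitM Λ f).app ((HomotopyCategory.quotient _ (ComplexShape.up ℤ)).obj I)) :=
  isIso_app_of_isKInjective (hresMod Λ X) _ (EtBC.RpushModD Λ f) _ I

variable {X Y : Scheme.{u}} (f : X ⟶ Y) [EtBC.HasRpushMod Λ f]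

theorem exists_adjMod : ∃ a : (EtModW.pull Λ f).mapDerivedCategory ⊣ EtBC.RpushModD Λ f, ∀ K,
    (EtModW.pull Λ f).mapDerivedCategory.map ((unitM Λ f).app K) ≫ a.counit.app (DerivedCategory.Qh.obj K) =
      (EtModW.pull Λ f).mapDerivedCategoryFactorsh.hom.app
          (((EtModW.push Λ f).mapHomotopyCategory (ComplexShape.up ℤ)).obj K) ≫
        DerivedCategory.Qh.map ((homotopyAdjunction (EtSix.pullPushModAdj Λ f)).counit.app K) :=
  BCDLib.exists_derivedAdj (hresMod Λ X) (EtSix.pullPushModAdj Λ f) (EtBC.RpushModD Λ f) (unitM Λ f)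

/-- The derived adjunction. -/
def adjMod : (EtModW.pull Λ f).mapDerivedCategory ⊣ EtBC.RpushModD Λ f := (exists_adjMod Λ f).choose

/-- The shift structure of `Rf_*`. -/
instance commShift_RpushModD : (EtBC.RpushModD Λ f).CommShift ℤ := (adjMod Λ f).rightAdjointCommShift ℤ

instance isTriangulated_RpushModD : (EtBC.RpushModD Λ f).IsTriangulated :=
  haveI : (adjMod Λ f).CommShift ℤ := (adjMod Λ f).commShift_of_leftAdjoint ℤ
  (adjMod Λ f).isTriangulated_rightAdjoint

end Groth.Agent.UnbddLib
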