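import Groth.Agent.UnbddLib.Cut
import Groth.Agent.KInj.Products
import Groth.Agent.RpushSumLib.Gen
import Mathlib.Algebra.Homology.DerivedCategory.HomologySequence
import Mathlib.Algebra.Homology.DerivedCategory.TStructure
import Mathlib.CategoryTheory.Abelian.DiagramLemmas.Four

/-!
# Reduction to bounded below complexes for functors preserving direct sums

A natural transformation between triangulated functors which preserve countable direct sums is an
isomorphism as soon as it is one on bounded below objects: every complex is the telescope of its stupid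
truncations.
-/

set_option autoImplicit false
set_option linter.style.haveILetI false
set_option linter.unusedSectionVars false
set_option backward.isDefEq.respectTransparency false
set_option backward.isDefEq.respectTransparency.types false
set_option maxHeartbeats 1000000

universe t w w' v u v' u'

open CategoryTheory CategoryTheory.Limits CategoryTheory.Pretriangulated

noncomputable section

namespace Groth.Agent.UnbddLib

/-- The five lemma. -/
theorem isIso_five {C : Type u} [Category.{v} C] [Abelian C] {A₀ A₁ A₂ A₃ A₄ B₀ B₁ B₂ B₃ B₄ : C}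
    {f₀ : A₀ ⟶ A₁} {f₁ : A₁ ⟶ A₂} {f₂ : A₂ ⟶ A₃} {f₃ : A₃ ⟶ A₄}
    {g₀ : B₀ ⟶ B₁} {g₁ : B₁ ⟶ B₂} {g₂ : B₂ ⟶ B₃} {g₃ : B₃ ⟶ B₄}
    (e₀ : A₀ ⟶ B₀) (e₁ : A₁ ⟶ B₁) (e₂ : A₂ ⟶ B₂) (e₃ : A₃ ⟶ B₃) (e₄ : A₄ ⟶ B₄)
    {wf₁ : f₀ ≫ f₁ = 0} (hf₁ : (ShortComplex.mk f₀ f₁ wf₁).Exact)
    {wf₂ : f₁ ≫ f₂ = 0} (hf₂ : (ShortComplex.mk f₁ f₂ wf₂).Exact)
    {wf₃ : f₂ ≫ f₃ = 0} (hf₃ : (ShortComplex.mk f₂ f₃ wf₃).Exact)
    {wg₁ : g₀ ≫ g₁ = 0} (hg₁ : (ShortComplex.mk g₀ g₁ wg₁).Exact)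
    {wg₂ : g₁ ≫ g₂ = 0} (hg₂ : (ShortComplex.mk g₁ g₂ wg₂).Exact)
    {wg₃ : g₂ ≫ g₃ = 0} (hg₃ : (ShortComplex.mk g₂ g₃ wg₃).Exact)
    (c₀ : f₀ ≫ e₁ = e₀ ≫ g₀) (c₁ : f₁ ≫ e₂ = e₁ ≫ g₁) (c₂ : f₂ ≫ e₃ = e₂ ≫ g₂) (c₃ : f₃ ≫ e₄ = e₃ ≫ g₃)
    [IsIso e₀] [IsIso e₁] [IsIso e₃] [IsIso e₄] : IsIso e₂ := by
  let R₁ := ComposableArrows.mk₄ f₀ f₁ f₂ f₃
  let R₂ := ComposableArrows.mk₄ g₀ g₁ g₂ g₃
  have h₁ : R₁.Exact := ComposableArrows.exact_of_δ₀ (ComposableArrows.exact₂_mk _ wf₁ hf₁)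
    (ComposableArrows.exact_of_δ₀ (ComposableArrows.exact₂_mk _ wf₂ hf₂) (ComposableArrows.exact₂_mk _ wf₃ hf₃))
  have h₂ : R₂.Exact := ComposableArrows.exact_of_δ₀ (ComposableArrows.exact₂_mk _ wg₁ hg₁)
    (ComposableArrows.exact_of_δ₀ (ComposableArrows.exact₂_mk _ wg₂ hg₂) (ComposableArrows.exact₂_mk _ wg₃ hg₃))
  let φ : R₁ ⟶ R₂ := ComposableArrows.homMk₄ e₀ e₁ e₂ e₃ e₄ c₀ c₁ c₂ c₃
  haveI : IsIso e₀ := ‹_›
  exact Abelian.isIso_of_epi_of_isIso_of_isIso_of_mono h₁ h₂ φ (inferInstanceAs (Epi e₀))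
    (inferInstanceAs (IsIso e₁)) (inferInstanceAs (IsIso e₃)) (inferInstanceAs (Mono e₄))

section Triangle

variable {D : Type u'} [Category.{v'} D] [Preadditive D] [HasZeroObject D] [HasShift D ℤ]
  [∀ n : ℤ, (shiftFunctor D n).Additive] [Pretriangulated D]
  {B : Type u} [Category.{v} B] [Abelian B] [HasDerivedCategory.{w} B]
  {F G : D ⥤ DerivedCategory B} [F.CommShift ℤ] [F.IsTriangulated] [G.CommShift ℤ] [G.IsTriangulated]
  (τ : F ⟶ G)

/-- Isomorphy passes to the third object of a distinguished triangle. -/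
theorem isIso_app_obj₃ (T : Triangle D) (hT : T ∈ distTriang D) (h₁ : IsIso (τ.app T.obj₁))
    (h₂ : IsIso (τ.app T.obj₂)) (h₁' : IsIso (τ.app (T.obj₁⟦(1 : ℤ)⟧)))
    (h₂' : IsIso (τ.app (T.obj₂⟦(1 : ℤ)⟧))) : IsIso (τ.app T.obj₃) := by
  rw [DerivedCategory.isIso_iff]
  intro a
  let H := DerivedCategory.homologyFunctor B a
  haveI := h₁
  haveI := h₂
  haveI := h₁'
  haveI := h₂'
  have hr := rot_of_distTriang _ hT
  have hr2 := rot_of_distTriang _ hr
  exact isIso_five (H.map (τ.app T.obj₁)) (H.map (τ.app T.obj₂)) (H.map (τ.app T.obj₃))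
    (H.map (τ.app (T.obj₁⟦(1 : ℤ)⟧))) (H.map (τ.app (T.obj₂⟦(1 : ℤ)⟧)))
    ((F ⋙ H).map_distinguished_exact T hT) ((F ⋙ H).map_distinguished_exact _ hr)
    ((F ⋙ H).map_distinguished_exact _ hr2)
    ((G ⋙ H).map_distinguished_exact T hT) ((G ⋙ H).map_distinguished_exact _ hr)
    ((G ⋙ H).map_distinguished_exact _ hr2)
    ((Functor.whiskerRight τ H).naturality T.mor₁) ((Functor.whiskerRight τ H).naturality T.mor₂)
    ((Functor.whiskerRight τ H).naturality T.mor₃)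
    ((Functor.whiskerRight τ H).naturality (-T.mor₁⟦(1 : ℤ)⟧'))

end Triangle

section Coproduct

variable {D : Type u'} [Category.{v'} D] {E : Type u} [Category.{v} E] {F G : D ⥤ E} (τ : F ⟶ G)

/-- Isomorphy passes to direct sums. -/
theorem isIso_app_of_cofan {J : Type t} [PreservesColimitsOfShape (Discrete J) F]
    [PreservesColimitsOfShape (Discrete J) G] {X : J → D} {c : Cofan X} (hc : IsColimit c)
    (h : ∀ j, IsIso (τ.app (X j))) : IsIso (τ.app c.pt) := by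
  haveI : IsIso (Functor.whiskerLeft (Discrete.functor X) τ) := by
    haveI : ∀ j, IsIso ((Functor.whiskerLeft (Discrete.functor X) τ).app j) := fun j => h j.as
    exact NatIso.isIso_of_isIso_app _
  have e : τ.app c.pt = (IsColimit.coconePointsIsoOfNatIso (isColimitOfPreserves F hc) (isColimitOfPreserves G hc)
      (asIso (Functor.whiskerLeft (Discrete.functor X) τ))).hom := by
    refine (isColimitOfPreserves F hc).hom_ext fun j => ?_
    exact (τ.naturality (c.ι.app j)).trans (IsColimit.comp_coconePointsIsoOfNatIso_hom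
      (isColimitOfPreserves F hc) (isColimitOfPreserves G hc) (asIso (Functor.whiskerLeft (Discrete.functor X) τ)) j).symm
  rw [e]
  infer_instance

end Coproduct

variable {A : Type u} [Category.{v} A] [Abelian A] [HasDerivedCategory.{w} A]
  {B : Type u'} [Category.{v'} B] [Abelian B] [HasDerivedCategory.{w'} B]
  [HasCoproductsOfShape (ULift.{t} ℕ) A]

/-- **Reduction to bounded below complexes.** -/
theorem isIso_of_bounded_below
    (hres : ∀ K : CochainComplex A ℤ, ∃ (I : CochainComplex A ℤ) (f : K ⟶ I), I.IsKInjective ∧ QuasiIso f)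
    {F G : DerivedCategory A ⥤ DerivedCategory B} [F.CommShift ℤ] [F.IsTriangulated] [G.CommShift ℤ]
    [G.IsTriangulated] [PreservesColimitsOfShape (Discrete (ULift.{t} ℕ)) F]
    [PreservesColimitsOfShape (Discrete (ULift.{t} ℕ)) G] (τ : F ⟶ G)
    (hbb : ∀ (K : DerivedCategory A) (n : ℤ), K.IsGE n → IsIso (τ.app K)) (K : DerivedCategory A) :
    IsIso (τ.app K) := by
  haveI := RpushSumLib.preservesCoproducts_quotientQh (A := A) (ULift.{t} ℕ) hres
  haveI : PreservesColimitsOfShape (Discrete (ULift.{t} ℕ)) (DerivedCategory.Q (C := A)) :=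
    preservesColimitsOfShape_of_natIso (DerivedCategory.quotientCompQhIso A)
  let L := DerivedCategory.Q.objPreimage K
  suffices IsIso (τ.app (DerivedCategory.Q.obj L)) from
    (NatTrans.isIso_app_iff_of_iso τ (DerivedCategory.Q.objObjPreimageIso K)).1 this
  let T := DerivedCategory.triangleOfSES (tel_shortExact.{t} L)
  let c : Cofan fun n => DerivedCategory.Q.obj (cuts.{t} L n) :=
    Cofan.mk (DerivedCategory.Q.obj (tsum.{t} L)) fun n => DerivedCategory.Q.map (Sigma.ι (cuts.{t} L) n)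
  have hc : IsColimit c := isColimitCofanMkObjOfIsColimit DerivedCategory.Q _ _ (coproductIsCoproduct (cuts.{t} L))
  have h0 : ∀ n, (DerivedCategory.Q.obj (cuts.{t} L n)).IsGE (-(n.down : ℤ)) := fun n => inferInstance
  have h1 : IsIso (τ.app (DerivedCategory.Q.obj (tsum.{t} L))) :=
    isIso_app_of_cofan τ hc fun n => hbb _ _ (h0 n)
  have h2 : IsIso (τ.app ((DerivedCategory.Q.obj (tsum.{t} L))⟦(1 : ℤ)⟧)) := by
    let c' : Cofan fun n => (DerivedCategory.Q.obj (cuts.{t} L n))⟦(1 : ℤ)⟧ :=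
      Cofan.mk ((DerivedCategory.Q.obj (tsum.{t} L))⟦(1 : ℤ)⟧) fun n =>
        (DerivedCategory.Q.map (Sigma.ι (cuts.{t} L) n))⟦(1 : ℤ)⟧'
    have hc' : IsColimit c' := isColimitCofanMkObjOfIsColimit (shiftFunctor (DerivedCategory A) (1 : ℤ)) _ _ hc
    refine isIso_app_of_cofan τ hc' fun n => hbb _ (-(n.down : ℤ) - 1) ?_
    haveI := h0 n
    exact DerivedCategory.TStructure.t.isGE_shift _ (-(n.down : ℤ)) 1 (-(n.down : ℤ) - 1) (by omega)
  exact isIso_app_obj₃ τ T (DerivedCategory.triangleOfSES_distinguished _) h1 h1 h2 h2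

end Groth.Agent.UnbddLib
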